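/-
Groups with exactly 21 Sylow 5-subgroups, acting faithfully on them: basic structure.
-/
import Mathlib

set_option autoImplicit false

namespace CfsgLib.Sylow21

open MulAction Subgroup

variable {G : Type*} [Group G] [Finite G]

local instance factFive : Fact (Nat.Prime 5) := ⟨by norm_num⟩

/-- The reduced hypothetical situation. -/
structure Setup (G : Type*) [Group G] : Prop where
  card_sylow : Nat.card (Sylow 5 G) = 21
  faithful : ∀ g : G, (∀ Q : Sylow 5 G, g • Q = Q) → g = 1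
  generated : ∀ H : Subgroup G, (∀ Q : Sylow 5 G, (Q : Subgroup G) ≤ H) → H = ⊤

omit [Finite G] in
theorem exists_mul_modEq_one {q d : ℕ} (hq : q.Prime) (hd : ¬ q ∣ d) : ∃ e, d * e ≡ 1 [MOD q] := by
  haveI : Fact q.Prime := ⟨hq⟩
  refine ⟨((d : ZMod q)⁻¹).val, ?_⟩
  rw [← ZMod.natCast_eq_natCast_iff, Nat.cast_mul, ZMod.natCast_zmod_val, Nat.cast_one]
  exact mul_inv_cancel₀ (by rwa [Ne, ZMod.natCast_eq_zero_iff])

theorem smul_eq_iff {g : G} {Q : Sylow 5 G} :
    g • Q = Q ↔ g ∈ normalizer ((Q : Subgroup G) : Set G) := Sylow.smul_eq_iff_mem_normalizer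

theorem mem_of_pow_eq_one {g : G} {n : ℕ} (hg : g ^ 5 ^ n = 1) {Q : Sylow 5 G} (h : g • Q = Q) :
    g ∈ (Q : Subgroup G) := by
  have hp : IsPGroup 5 (zpowers g) := by
    obtain ⟨k, -, hk⟩ := (Nat.dvd_prime_pow (Fact.out : Nat.Prime 5)).mp (orderOf_dvd_of_pow_eq_one hg)
    exact IsPGroup.of_card (n := k) (by rw [Nat.card_zpowers, hk])
  have h1 : g ∈ zpowers g ⊓ normalizer ((Q : Subgroup G) : Set G) :=
    ⟨mem_zpowers g, smul_eq_iff.mp h⟩
  have h2 : zpowers g ⊓ normalizer ((Q : Subgroup G) : Set G) = zpowers g ⊓ (Q : Subgroup G) :=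
    hp.inf_normalizer_sylow Q
  rw [h2] at h1
  exact h1.2

theorem mem_iff_smul {g : G} (hg : g ^ 5 = 1) {Q : Sylow 5 G} :
    g ∈ (Q : Subgroup G) ↔ g • Q = Q :=
  ⟨fun h => smul_eq_iff.mpr (le_normalizer h), mem_of_pow_eq_one (n := 1) (by simpa using hg)⟩

theorem eq_of_le_normalizer {P Q : Sylow 5 G} (h : ∀ g ∈ (P : Subgroup G), g • Q = Q) : P = Q := by
  refine Sylow.ext (eq_of_le_of_card_ge (fun g hg => ?_) ?_)
  · obtain ⟨n, hn⟩ := P.2 ⟨g, hg⟩
    exact mem_of_pow_eq_one (n := n) (congrArg Subtype.val hn) (h g hg)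
  · rw [P.card_eq_multiplicity, Q.card_eq_multiplicity]

theorem orbit_card (hS : Setup G) {P Q : Sylow 5 G} (hne : Q ≠ P) :
    Nat.card (orbit (P : Subgroup G) Q) = 5 := by
  obtain ⟨n, hn⟩ := P.2.card_orbit Q
  have h0 : n ≠ 0 := by
    intro h
    rw [h, pow_zero] at hn
    haveI := (Nat.card_eq_one_iff_unique.mp hn).1
    exact hne (eq_of_le_normalizer fun g hg => congrArg Subtype.val (Subsingleton.elim
      (⟨(⟨g, hg⟩ : (P : Subgroup G)) • Q, mem_orbit Q _⟩ : orbit (P : Subgroup G) Q)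
      ⟨Q, mem_orbit_self Q⟩)).symm
  have hP : P ∉ orbit (P : Subgroup G) Q := by
    rintro ⟨g, hg⟩
    apply hne
    exact MulAction.injective (g : G) (hg.trans (smul_eq_iff.mpr (le_normalizer g.2)).symm)
  have hlt : (orbit (P : Subgroup G) Q).ncard < 21 := by
    rw [← hS.card_sylow, ← Set.ncard_univ]
    exact Set.ncard_lt_ncard (Set.ssubset_univ_iff.mpr fun h => hP (h ▸ trivial))
  rw [← Nat.card_coe_set_eq, hn] at hlt
  have h2 : ¬ 2 ≤ n := fun h => by
    have := (Nat.pow_le_pow_right (show 1 ≤ 5 by norm_num) h).trans_lt hlt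
    norm_num at this
  rw [hn, show n = 1 by omega, pow_one]

/-- The part of `P` fixing `Q`. -/
def fixer (P Q : Sylow 5 G) : Subgroup (P : Subgroup G) := stabilizer (P : Subgroup G) Q

theorem fixer_index (hS : Setup G) {P Q : Sylow 5 G} (hne : Q ≠ P) :
    (fixer P Q).index = 5 := by
  rw [fixer, index_stabilizer, ← Nat.card_coe_set_eq, orbit_card hS hne]

theorem fixer_normal (hS : Setup G) {P Q : Sylow 5 G} (hne : Q ≠ P) : (fixer P Q).Normal := by
  have hc : 5 ∣ Nat.card (P : Subgroup G) := by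
    have h := Subgroup.index_dvd_card (fixer P Q)
    rwa [fixer_index hS hne] at h
  obtain ⟨n, hn⟩ := IsPGroup.iff_card.mp P.2
  have hn0 : n ≠ 0 := by
    rintro rfl
    rw [hn, pow_zero] at hc
    norm_num at hc
  refine Subgroup.normal_of_index_eq_minFac_card ?_
  rw [fixer_index hS hne, hn, Nat.pow_minFac hn0, (Fact.out : Nat.Prime 5).minFac_eq]

theorem exists_ne (hS : Setup G) (P : Sylow 5 G) : ∃ Q, Q ≠ P := by
  haveI : Nontrivial (Sylow 5 G) := Finite.one_lt_card_iff_nontrivial.mp (by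
    rw [hS.card_sylow]; norm_num)
  exact _root_.exists_ne P

theorem pow_five (hS : Setup G) {P : Sylow 5 G} {x : G} (hx : x ∈ (P : Subgroup G)) : x ^ 5 = 1 := by
  refine hS.faithful _ fun Q => ?_
  by_cases hne : Q = P
  · subst hne; exact smul_eq_iff.mpr (pow_mem (le_normalizer hx) 5)
  haveI := fixer_normal hS hne
  have h5 : Nat.card ((P : Subgroup G) ⧸ fixer P Q) = 5 := by
    rw [← Subgroup.index_eq_card, fixer_index hS hne]
  have h1 : ((⟨x, hx⟩ : (P : Subgroup G)) : (P : Subgroup G) ⧸ fixer P Q) ^ 5 = 1 :=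
    (congrArg _ h5.symm).trans pow_card_eq_one'
  rw [← QuotientGroup.mk_pow, QuotientGroup.eq_one_iff] at h1
  exact h1

theorem comm (hS : Setup G) {P : Sylow 5 G} {x y : G} (hx : x ∈ (P : Subgroup G))
    (hy : y ∈ (P : Subgroup G)) : x * y = y * x := by
  suffices x * y * x⁻¹ * y⁻¹ = 1 by
    rw [mul_inv_eq_one, mul_inv_eq_iff_eq_mul] at this
    exact this
  refine hS.faithful _ fun Q => ?_
  by_cases hne : Q = P
  · subst hne
    exact smul_eq_iff.mpr (le_normalizer
      (mul_mem (mul_mem (mul_mem hx hy) (inv_mem hx)) (inv_mem hy)))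
  haveI := fixer_normal hS hne
  have hcyc : IsCyclic ((P : Subgroup G) ⧸ fixer P Q) :=
    isCyclic_of_prime_card (p := 5) (by rw [← Subgroup.index_eq_card, fixer_index hS hne])
  let a : (P : Subgroup G) := ⟨x, hx⟩
  let b : (P : Subgroup G) := ⟨y, hy⟩
  have h1 : ((a * b * a⁻¹ * b⁻¹ : (P : Subgroup G)) : (P : Subgroup G) ⧸ fixer P Q) = 1 := by
    simp only [QuotientGroup.mk_mul, QuotientGroup.mk_inv]
    rw [hcyc.commutative.1.comm (a : (P : Subgroup G) ⧸ fixer P Q) b]
    group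
  rw [QuotientGroup.eq_one_iff] at h1
  exact h1

theorem le_centralizer (hS : Setup G) {P : Sylow 5 G} {x : G} (hx : x ∈ (P : Subgroup G)) :
    (P : Subgroup G) ≤ centralizer ({x} : Set G) :=
  fun y hy => mem_centralizer_singleton_iff.mpr (comm hS hx hy).symm

theorem card_sylow_mul (hS : Setup G) (P : Sylow 5 G) :
    Nat.card (normalizer ((P : Subgroup G) : Set G)) * 21 = Nat.card G := by
  rw [← hS.card_sylow, P.card_eq_index_normalizer]
  exact Subgroup.card_mul_index _

/-- The orbits of `P` on the other Sylow subgroups are permuted by its normaliser. -/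
theorem smul_orbit {P Q : Sylow 5 G} {g : G} (hg : g ∈ normalizer ((P : Subgroup G) : Set G)) :
    (fun R => g • R) '' orbit (P : Subgroup G) Q = orbit (P : Subgroup G) (g • Q) := by
  ext R
  constructor
  · rintro ⟨-, ⟨x, rfl⟩, rfl⟩
    refine ⟨⟨g * x * g⁻¹, (mem_normalizer_iff.mp hg x).mp x.2⟩, ?_⟩
    show (g * (x : G) * g⁻¹) • g • Q = g • ((x : G) • Q)
    rw [mul_smul, mul_smul, inv_smul_smul]
  · rintro ⟨x, rfl⟩
    refine ⟨(g⁻¹ * (x : G) * g) • Q, ⟨⟨g⁻¹ * (x : G) * g, ?_⟩, rfl⟩, ?_⟩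
    · have := (mem_normalizer_iff.mp (inv_mem hg) x).mp x.2
      rwa [inv_inv] at this
    · show g • (g⁻¹ * (x : G) * g) • Q = (x : G) • g • Q
      rw [mul_smul, mul_smul, smul_inv_smul]

/-- An element of prime order at least 7 fixing a point is trivial. -/
theorem not_fix_large_prime (hS : Setup G) {g : G} {q : ℕ} (hq : q.Prime) (h7 : 7 ≤ q)
    (hg : orderOf g = q) (P : Sylow 5 G) : g • P ≠ P := by
  intro hfix
  have hgN := smul_eq_iff.mp hfix
  haveI : Fact q.Prime := ⟨hq⟩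
  have h1 : g ≠ 1 := fun h => by rw [h, orderOf_one] at hg; omega
  apply h1
  refine hS.faithful g fun Q => ?_
  by_contra hQ
  have hQP : Q ≠ P := fun h => hQ (h ▸ hfix)
  -- orbits of `P` other than `{P}`
  have hQ' : ∀ i : ℕ, g ^ i • Q ≠ P := fun i h => by
    apply hQP
    have : g ^ i • P = P := smul_eq_iff.mpr (pow_mem hgN i)
    exact MulAction.injective (g ^ i) (h.trans this.symm)
  set O := orbit (P : Subgroup G) Q with hO
  have hinv : ¬ (fun R => g • R) '' O = O := by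
    intro hfixO
    have hzc : IsPGroup q (zpowers g) := IsPGroup.of_card (n := 1) (by
      rw [Nat.card_zpowers, hg, pow_one])
    have hmem : ∀ i : ℕ, g ^ i • Q ∈ O := by
      intro i
      induction i with
      | zero => rw [pow_zero, one_smul]; exact mem_orbit_self Q
      | succ i ih =>
        rw [pow_succ', mul_smul, ← hfixO]
        exact ⟨_, ih, rfl⟩
    obtain ⟨n, hn⟩ := hzc.card_orbit Q
    have hn0 : n ≠ 0 := by
      intro h
      rw [h, pow_zero] at hn
      haveI := (Nat.card_eq_one_iff_unique.mp hn).1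
      exact hQ (congrArg Subtype.val (Subsingleton.elim
        (⟨(⟨g, mem_zpowers g⟩ : zpowers g) • Q, mem_orbit Q _⟩ : orbit (zpowers g) Q)
        ⟨Q, mem_orbit_self Q⟩))
    have hle : (orbit (zpowers g) Q).ncard ≤ O.ncard := by
      refine Set.ncard_le_ncard ?_
      rintro _ ⟨⟨y, hy⟩, rfl⟩
      obtain ⟨i, rfl⟩ := (mem_powers_iff_mem_zpowers (G := G)).mpr hy
      exact hmem i
    rw [← Nat.card_coe_set_eq, ← Nat.card_coe_set_eq, hn, orbit_card hS hQP] at hle
    have := Nat.le_self_pow hn0 q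
    omega
  -- the images of `O` under powers of `g` are disjoint orbits
  have himg : ∀ i : ℕ, (fun R => g ^ i • R) '' O = orbit (P : Subgroup G) (g ^ i • Q) :=
    fun i => smul_orbit (pow_mem hgN i)
  have hdiff : ∀ d : ℕ, ¬ q ∣ d → (fun R => g ^ d • R) '' O ≠ O := by
    intro d hd h
    apply hinv
    have hpow : ∀ e : ℕ, (fun R => g ^ (d * e) • R) '' O = O := by
      intro e
      induction e with
      | zero => simp
      | succ e ih =>
        conv_rhs => rw [← h, ← ih, Set.image_image]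
        simp [← mul_smul, ← pow_add, Nat.mul_succ, add_comm]
    obtain ⟨e, he⟩ : ∃ e, d * e ≡ 1 [MOD q] :=
      exists_mul_modEq_one hq hd
    have h2 := hpow e
    have : g ^ (d * e) = g := by
      rw [← pow_mod_orderOf, hg, he, Nat.mod_eq_of_lt hq.one_lt, pow_one]
    rwa [this] at h2
  have hinj : Function.Injective (fun x : Fin 5 × O => g ^ (x.1 : ℕ) • (x.2 : Sylow 5 G)) := by
    rintro ⟨i, R⟩ ⟨j, T⟩ (h : g ^ (i : ℕ) • (R : Sylow 5 G) = g ^ (j : ℕ) • (T : Sylow 5 G))
    have aux : ∀ i j : ℕ, i < j → j < 5 → ∀ R ∈ O, ∀ T ∈ O, g ^ i • R ≠ g ^ j • T := by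
      intro i j hij hj R hR T hT h
      have hd : ¬ q ∣ (j - i) := fun hdvd => by
        have := Nat.le_of_dvd (by omega) hdvd; omega
      refine hdiff _ hd ?_
      rw [himg]
      have hRT : R = g ^ (j - i) • T := MulAction.injective (g ^ i) (by
        show g ^ i • R = g ^ i • g ^ (j - i) • T
        rw [h, ← mul_smul, ← pow_add, Nat.add_sub_cancel' hij.le])
      have hTm : g ^ (j - i) • T ∈ orbit (P : Subgroup G) (g ^ (j - i) • Q) := by
        rw [← himg]; exact ⟨T, hT, rfl⟩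
      rw [← hRT] at hTm
      rw [← orbit_eq_iff.mpr hTm]
      exact orbit_eq_iff.mpr hR
    rcases lt_trichotomy (i : ℕ) j with hij | hij | hij
    · exact absurd h (aux _ _ hij j.2 _ R.2 _ T.2)
    · rw [hij] at h
      exact Prod.ext (Fin.ext hij) (Subtype.ext (MulAction.injective _ h))
    · exact absurd h.symm (aux _ _ hij i.2 _ T.2 _ R.2)
  have h25 := Nat.card_le_card_of_injective _ hinj
  rw [Nat.card_prod, Nat.card_fin, orbit_card hS hQP, hS.card_sylow] at h25
  omega

theorem not_dvd_eleven (hS : Setup G) : ¬ 11 ∣ Nat.card G := by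
  intro h
  obtain ⟨P⟩ : Nonempty (Sylow 5 G) := inferInstance
  rw [← card_sylow_mul hS P] at h
  have h' := (Nat.Prime.dvd_mul (show Nat.Prime 11 by norm_num)).mp h
  rcases h' with h' | h'
  · haveI : Fact (Nat.Prime 11) := ⟨by norm_num⟩
    obtain ⟨x, hx⟩ := exists_prime_orderOf_dvd_card' 11 h'
    rw [← Subgroup.orderOf_coe] at hx
    exact not_fix_large_prime hS (by norm_num) (by norm_num) hx P (smul_eq_iff.mpr x.2)
  · norm_num at h'

theorem seven_not_dvd_normalizer (hS : Setup G) (P : Sylow 5 G) :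
    ¬ 7 ∣ Nat.card (normalizer ((P : Subgroup G) : Set G)) := by
  intro h
  haveI : Fact (Nat.Prime 7) := ⟨by norm_num⟩
  obtain ⟨x, hx⟩ := exists_prime_orderOf_dvd_card' 7 h
  rw [← Subgroup.orderOf_coe] at hx
  exact not_fix_large_prime hS (by norm_num) le_rfl hx P (smul_eq_iff.mpr x.2)

/-- The number of Sylow subgroups fixed by a 5-element: 1, 6, 11 or 16. -/
theorem card_fixedBy (hS : Setup G) {x : G} (hx : x ^ 5 = 1) (hx1 : x ≠ 1) :
    Nat.card (fixedBy (Sylow 5 G) x) % 5 = 1 ∧ Nat.card (fixedBy (Sylow 5 G) x) ≤ 16 := by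
  have hord : orderOf x = 5 := orderOf_eq_prime hx hx1
  have hp : IsPGroup 5 (zpowers x) := IsPGroup.of_card (n := 1) (by
    rw [Nat.card_zpowers, hord, pow_one])
  have hfix : fixedPoints (zpowers x) (Sylow 5 G) = fixedBy (Sylow 5 G) x := by
    ext Q
    constructor
    · intro h; exact h ⟨x, mem_zpowers x⟩
    · rintro h ⟨y, hy⟩
      obtain ⟨k, rfl⟩ := mem_zpowers_iff.mp hy
      have hQ : x ∈ normalizer ((Q : Subgroup G) : Set G) := smul_eq_iff.mp h
      exact smul_eq_iff.mpr (zpow_mem hQ k)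
  have hmod := hp.card_modEq_card_fixedPoints (Sylow 5 G)
  rw [hfix, hS.card_sylow] at hmod
  have hlt : (fixedBy (Sylow 5 G) x).ncard < 21 := by
    rw [← hS.card_sylow, ← Set.ncard_univ]
    refine Set.ncard_lt_ncard (Set.ssubset_univ_iff.mpr fun h => hx1 (hS.faithful x fun Q => ?_))
    exact (Set.eq_univ_iff_forall.mp h Q : Q ∈ fixedBy (Sylow 5 G) x)
  rw [← Nat.card_coe_set_eq] at hlt
  rw [Nat.ModEq] at hmod
  omega

/-- A 5-element cannot fix exactly eleven Sylow subgroups. -/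
theorem card_fixedBy_ne_eleven (hS : Setup G) {x : G} (hx : x ^ 5 = 1) :
    Nat.card (fixedBy (Sylow 5 G) x) ≠ 11 := by
  intro h11
  let C := centralizer ({x} : Set G)
  obtain ⟨⟨P, hP⟩⟩ : Nonempty (fixedBy (Sylow 5 G) x) :=
    (Nat.card_pos_iff.mp (h11 ▸ (by norm_num : 0 < 11))).1
  have hle : ∀ Q : Sylow 5 G, x • Q = Q → (Q : Subgroup G) ≤ C := fun Q hQ =>
    le_centralizer hS ((mem_iff_smul hx).mpr hQ)
  have horb : orbit C P = fixedBy (Sylow 5 G) x := by
    ext Q
    constructor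
    · rintro ⟨⟨c, hc⟩, rfl⟩
      show x • c • P = c • P
      rw [← mul_smul, ← mem_centralizer_singleton_iff.mp hc, mul_smul, hP]
    · intro hQ
      obtain ⟨c, hc⟩ := exists_smul_eq C (P.subtype (hle P hP)) (Q.subtype (hle Q hQ))
      refine ⟨c, ?_⟩
      show (c : G) • P = Q
      rw [Sylow.smul_subtype (hle P hP)] at hc
      exact Sylow.subtype_injective hc
  have hd : 11 ∣ Nat.card G := by
    refine dvd_trans ?_ (Subgroup.card_subgroup_dvd_card C)
    rw [← h11, ← horb, Nat.card_coe_set_eq, ← index_stabilizer]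
    exact Subgroup.index_dvd_card _
  exact not_dvd_eleven hS hd

end CfsgLib.Sylow21
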