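/-
The reduced group is simple, and a Sylow 7-subgroup has order 7 and normaliser prime to 5.
-/
import Cfsg.Agent.Sylow21.Basic
import Cfsg.Agent.PermSimple.Criteria

set_option autoImplicit false

namespace CfsgLib.Sylow21

open MulAction Subgroup

variable {G : Type*} [Group G] [Finite G]

local instance factFive' : Fact (Nat.Prime 5) := ⟨by norm_num⟩
local instance factSeven : Fact (Nat.Prime 7) := ⟨by norm_num⟩

theorem card_sylow_seven (hS : Setup G) (R : Sylow 7 G) : Nat.card (R : Subgroup G) = 7 := by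
  obtain ⟨P⟩ : Nonempty (Sylow 5 G) := inferInstance
  rw [R.card_eq_multiplicity, ← card_sylow_mul hS P,
    Nat.factorization_mul Nat.card_pos.ne' (by norm_num), Finsupp.add_apply,
    Nat.factorization_eq_zero_of_not_dvd (seven_not_dvd_normalizer hS P),
    show (21 : ℕ) = 3 * 7 from rfl, Nat.factorization_mul (by norm_num) (by norm_num),
    Finsupp.add_apply, Nat.factorization_eq_zero_of_not_dvd (by norm_num),
    Nat.Prime.factorization_self (by norm_num)]
  rfl

/-- A Sylow 7-subgroup fixes no point. -/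
theorem seven_free (hS : Setup G) {r : G} (hr : orderOf r = 7) (Q : Sylow 5 G) : r • Q ≠ Q :=
  not_fix_large_prime hS (by norm_num) le_rfl hr Q

theorem five_not_dvd_normalizer_seven (hS : Setup G) (R : Sylow 7 G) :
    ¬ 5 ∣ Nat.card (normalizer ((R : Subgroup G) : Set G)) := by
  intro h
  obtain ⟨x, hx⟩ := exists_prime_orderOf_dvd_card' 5 h
  haveI : IsCyclic (R : Subgroup G) := isCyclic_of_prime_card (card_sylow_seven hS R)
  have hdvd : orderOf ((R : Subgroup G).normalizerMonoidHom x) ∣ Nat.gcd 5 6 := by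
    refine Nat.dvd_gcd (hx ▸ orderOf_map_dvd _ x) ?_
    have h6 : Nat.card (MulAut (R : Subgroup G)) = 6 := by
      rw [IsCyclic.card_mulAut, card_sylow_seven hS R, Nat.totient_prime (by norm_num)]
    exact h6 ▸ orderOf_dvd_natCard _
  have hker : (R : Subgroup G).normalizerMonoidHom x = 1 :=
    orderOf_eq_one_iff.mp (Nat.dvd_one.mp hdvd)
  rw [← MonoidHom.mem_ker, normalizerMonoidHom_ker, mem_subgroupOf] at hker
  have hx5 : (x : G) ^ 5 = 1 := by
    rw [← hx, ← Subgroup.orderOf_coe]; exact pow_orderOf_eq_one _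
  have hx1 : (x : G) ≠ 1 := fun h => by
    rw [← Subgroup.orderOf_coe, h, orderOf_one] at hx; norm_num at hx
  obtain ⟨hmod, hle⟩ := card_fixedBy hS hx5 hx1
  -- the fixed set of `x` is a union of orbits of size seven
  have hinv : ∀ (r : (R : Subgroup G)) (Q : Sylow 5 G), (x : G) • Q = Q →
      (x : G) • ((r : G) • Q) = (r : G) • Q := fun r Q hQ => by
    rw [← mul_smul, ← mem_centralizer_iff.mp hker _ r.2, mul_smul, hQ]
  let S : SubMulAction (R : Subgroup G) (Sylow 5 G) :=
    { carrier := fixedBy (Sylow 5 G) (x : G), smul_mem' := fun r Q hQ => hinv r Q hQ }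
  have hmod7 := R.2.card_modEq_card_fixedPoints S
  have hempty : Nat.card (fixedPoints (R : Subgroup G) S) = 0 := by
    rw [Nat.card_eq_zero]; left
    refine ⟨fun ⟨Q, hQ⟩ => ?_⟩
    obtain ⟨r, hr⟩ := exists_prime_orderOf_dvd_card' (G := (R : Subgroup G)) 7
      (by rw [card_sylow_seven hS R])
    rw [← Subgroup.orderOf_coe] at hr
    exact seven_free hS hr (Q : Sylow 5 G) (congrArg Subtype.val (hQ r))
  have hS' : Nat.card S = Nat.card (fixedBy (Sylow 5 G) (x : G)) := rfl
  rw [hempty, hS', Nat.ModEq] at hmod7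
  have h11 := card_fixedBy_ne_eleven hS hx5
  omega

/-- The reduced group is simple. -/
theorem isSimple (hS : Setup G) : IsSimpleGroup G := by
  obtain ⟨P⟩ : Nonempty (Sylow 5 G) := inferInstance
  haveI : Nontrivial G := by
    refine Finite.one_lt_card_iff_nontrivial.mp ?_
    rw [← card_sylow_mul hS P]
    have := Nat.card_pos (α := normalizer ((P : Subgroup G) : Set G))
    omega
  refine ⟨fun M hM => or_iff_not_imp_left.mpr fun hbot => ?_⟩
  haveI := hM
  -- the orbit of `P` under `M`
  set O := orbit M P with hO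
  have h21 : O.ncard ∣ 21 := by
    rw [← hS.card_sylow]
    exact (IsBlock.orbit_of_normal (G := G) P).ncard_dvd_card ⟨P, mem_orbit_self P⟩
  have hinv : ∀ g : (P : Subgroup G), ∀ Q ∈ O, (g : G) • Q ∈ O := by
    rintro g _ ⟨m, rfl⟩
    refine ⟨⟨g * m * (g : G)⁻¹, hM.conj_mem m m.2 g⟩, ?_⟩
    show ((g : G) * m * (g : G)⁻¹) • P = (g : G) • (m : G) • P
    have hgP : (g : G)⁻¹ • P = P := smul_eq_iff.mpr (le_normalizer (inv_mem g.2))
    rw [mul_smul, hgP, mul_smul]
  let S : SubMulAction (P : Subgroup G) (Sylow 5 G) :=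
    { carrier := O, smul_mem' := fun g Q hQ => hinv g Q hQ }
  have hmod := P.2.card_modEq_card_fixedPoints S
  have hone : Nat.card (fixedPoints (P : Subgroup G) S) = 1 := by
    rw [Nat.card_eq_one_iff_unique]
    refine ⟨⟨fun a b => ?_⟩, ⟨⟨⟨P, mem_orbit_self P⟩, fun g =>
      Subtype.ext (smul_eq_iff.mpr (le_normalizer g.2))⟩⟩⟩
    have ha : P = (a : S) := eq_of_le_normalizer fun g hg => congrArg Subtype.val (a.2 ⟨g, hg⟩)
    have hb : P = (b : S) := eq_of_le_normalizer fun g hg => congrArg Subtype.val (b.2 ⟨g, hg⟩)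
    exact Subtype.ext (Subtype.ext (ha.symm.trans hb))
  have hS' : Nat.card S = O.ncard := Nat.card_coe_set_eq O
  rw [hone, hS', Nat.ModEq] at hmod
  have hcases : O.ncard = 1 ∨ O.ncard = 21 := by
    have := Nat.le_of_dvd (by norm_num) h21
    interval_cases h : O.ncard <;> simp_all
  rcases hcases with h1 | h1
  · -- `M` fixes every Sylow subgroup
    exfalso
    apply hbot
    rw [eq_bot_iff]
    intro m hm
    refine Subgroup.mem_bot.mpr (hS.faithful m fun Q => ?_)
    obtain ⟨g, rfl⟩ := exists_smul_eq G P Q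
    obtain ⟨a, ha⟩ := Set.ncard_eq_one.mp h1
    have h2 : (g⁻¹ * m * g) • P ∈ O :=
      ⟨⟨g⁻¹ * m * g, by simpa using hM.conj_mem m hm g⁻¹⟩, rfl⟩
    have h3 : P ∈ O := mem_orbit_self P
    rw [ha, Set.mem_singleton_iff] at h2 h3
    rw [← h3, mul_smul, mul_smul, inv_smul_eq_iff] at h2
    exact h2
  · have h7 : 7 ∣ Nat.card M := by
      refine Dvd.dvd.trans ?_ (Subgroup.index_dvd_card (stabilizer M P))
      rw [index_stabilizer, h1]; norm_num
    obtain ⟨R⟩ : Nonempty (Sylow 7 G) := inferInstance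
    have hRM := PermSimple.sylow_le_of_dvd_card R (card_sylow_seven hS R) h7
    have hfr : normalizer ((R : Subgroup G) : Set G) ⊔ M = ⊤ := R.normalizer_sup_eq_top' hRM
    refine hS.generated M fun Q g hg => ?_
    set N7 := normalizer ((R : Subgroup G) : Set G) with hN7
    have hsurj : Function.Surjective ((QuotientGroup.mk' M).comp N7.subtype) := by
      rw [← MonoidHom.range_eq_top, MonoidHom.range_comp, Subgroup.range_subtype]
      have := congrArg (Subgroup.map (QuotientGroup.mk' M)) hfr
      rw [Subgroup.map_sup, QuotientGroup.map_mk'_self, sup_bot_eq,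
        Subgroup.map_top_of_surjective _ (QuotientGroup.mk'_surjective M)] at this
      exact this
    rw [← QuotientGroup.eq_one_iff, ← orderOf_eq_one_iff]
    have hd5 : orderOf (g : G ⧸ M) ∣ 5 :=
      (orderOf_map_dvd (QuotientGroup.mk' M) g).trans (orderOf_dvd_of_pow_eq_one (pow_five hS hg))
    have hdN : orderOf (g : G ⧸ M) ∣ Nat.card N7 :=
      (_root_.orderOf_dvd_natCard _).trans (Subgroup.card_dvd_of_surjective _ hsurj)
    rcases (Nat.dvd_prime (show Nat.Prime 5 by norm_num)).mp hd5 with h | h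
    · exact h
    · exact absurd (h ▸ hdN) (five_not_dvd_normalizer_seven hS R)

theorem not_comm (hS : Setup G) : ∃ a b : G, a * b ≠ b * a := by
  by_contra h
  push_neg at h
  obtain ⟨P⟩ : Nonempty (Sylow 5 G) := inferInstance
  obtain ⟨Q, hQ⟩ := exists_ne hS P
  exact hQ (eq_of_le_normalizer fun g _ => smul_eq_iff.mpr (mem_normalizer_iff.mpr fun y => by
    rw [h g y, mul_inv_cancel_right])).symm

/-- A non-trivial action of the reduced group is faithful. -/
theorem perm_injective (hS : Setup G) {X : Type*} (f : G →* Equiv.Perm X) (hf : f ≠ 1) :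
    Function.Injective f := by
  haveI := isSimple hS
  rcases IsSimpleGroup.eq_bot_or_eq_top_of_normal f.ker inferInstance with h | h
  · exact (MonoidHom.ker_eq_bot_iff f).mp h
  · exact absurd (MonoidHom.ker_eq_top_iff.mp h) hf

end CfsgLib.Sylow21
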