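/-
A Sylow 5-subgroup of the reduced group has order 5.
-/
import Cfsg.Agent.Sylow21.Structure

set_option autoImplicit false

namespace CfsgLib.Sylow21

open MulAction Subgroup
open scoped Pointwise Classical

variable {G : Type*} [Group G] [Finite G]

local instance factFive'' : Fact (Nat.Prime 5) := ⟨by norm_num⟩

/-- The part of `P` fixing `Q`, as a subgroup of the whole group. -/
def kerAt (P Q : Sylow 5 G) : Subgroup G := (P : Subgroup G) ⊓ stabilizer G Q

theorem kerAt_eq_map (P Q : Sylow 5 G) : (fixer P Q).map (P : Subgroup G).subtype = kerAt P Q := by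
  ext g
  constructor
  · rintro ⟨x, hx, rfl⟩; exact ⟨x.2, hx⟩
  · rintro ⟨h1, h2⟩; exact ⟨⟨g, h1⟩, h2, rfl⟩

theorem card_kerAt (hS : Setup G) {P Q : Sylow 5 G} (hne : Q ≠ P) :
    Nat.card (kerAt P Q) * 5 = Nat.card (P : Subgroup G) := by
  rw [← kerAt_eq_map, ← Nat.card_congr ((fixer P Q).equivMapOfInjective _
    (P : Subgroup G).subtype_injective).toEquiv]
  have h := Subgroup.card_mul_index (fixer P Q)
  rwa [fixer_index hS hne] at h

theorem mem_orbit_fixed (hS : Setup G) {P Q R : Sylow 5 G} {x : G} (hx : x ∈ (P : Subgroup G))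
    (hQ : x • Q = Q) (hR : R ∈ orbit (P : Subgroup G) Q) : x • R = R := by
  obtain ⟨g, rfl⟩ := hR
  show x • (g : G) • Q = (g : G) • Q
  rw [← mul_smul, comm hS hx g.2, mul_smul, hQ]

/-- The orbits of `P` other than the fixed point. -/
noncomputable def orbitFam [Fintype (Sylow 5 G)] (P : Sylow 5 G) : Finset (Finset (Sylow 5 G)) :=
  (Finset.univ.erase P).image fun Q => (orbit (P : Subgroup G) Q).toFinset

theorem card_orbitFam [Fintype (Sylow 5 G)] (hS : Setup G) (P : Sylow 5 G) :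
    (orbitFam P).card = 4 := by
  have hcover : (orbitFam P).biUnion id = Finset.univ.erase P := by
    ext R
    simp only [orbitFam, Finset.mem_biUnion, Finset.mem_image, Finset.mem_erase, Finset.mem_univ,
      and_true, id_eq]
    constructor
    · rintro ⟨_, ⟨Q, hQ, rfl⟩, hR⟩ rfl
      rw [Set.mem_toFinset] at hR
      obtain ⟨g, hg⟩ := hR
      exact hQ (MulAction.injective (g : G) (hg.trans (smul_eq_iff.mpr (le_normalizer g.2)).symm))
    · exact fun h => ⟨_, ⟨R, h, rfl⟩, Set.mem_toFinset.mpr (mem_orbit_self R)⟩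
  have hdisj : ((orbitFam P : Finset _) : Set (Finset (Sylow 5 G))).PairwiseDisjoint id := by
    intro A hA B hB hne
    simp only [orbitFam, Finset.coe_image, Set.mem_image] at hA hB
    obtain ⟨Q, -, rfl⟩ := hA
    obtain ⟨R, -, rfl⟩ := hB
    rw [Function.onFun, id_eq, id_eq, Finset.disjoint_left]
    intro S h1 h2
    apply hne
    rw [Set.mem_toFinset] at h1 h2
    rw [Set.toFinset_inj]
    exact (orbit_eq_iff.mpr h1).symm.trans (orbit_eq_iff.mpr h2)
  have h := Finset.card_biUnion (t := id) hdisj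
  rw [hcover, Finset.card_erase_of_mem (Finset.mem_univ _), Finset.card_univ,
    ← Nat.card_eq_fintype_card, hS.card_sylow] at h
  rw [Finset.sum_congr rfl (g := fun _ => 5) fun A hA => by
    obtain ⟨Q, hQ, rfl⟩ := Finset.mem_image.mp hA
    rw [id_eq, Set.toFinset_card, ← Nat.card_eq_fintype_card,
      orbit_card hS (Finset.mem_erase.mp hQ).1], Finset.sum_const, smul_eq_mul] at h
  omega

/-- The conjugates of a subgroup. -/
noncomputable def conjugatesFs [Fintype G] (X : Subgroup G) : Finset (Subgroup G) :=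
  Finset.univ.image fun g : G => MulAut.conj g • X

theorem conj_smul_smul (g h : G) (X : Subgroup G) :
    MulAut.conj g • MulAut.conj h • X = MulAut.conj (g * h) • X := by
  rw [map_mul, mul_smul]

theorem conj_smul_mem [Fintype G] {X Y : Subgroup G} (hY : Y ∈ conjugatesFs X) (g : G) :
    MulAut.conj g • Y ∈ conjugatesFs X := by
  obtain ⟨h, -, rfl⟩ := Finset.mem_image.mp hY
  exact Finset.mem_image.mpr ⟨g * h, Finset.mem_univ _, (conj_smul_smul g h X).symm⟩

theorem smul_le_smul_iff (g : G) (Y : Subgroup G) (Q : Sylow 5 G) :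
    MulAut.conj g • Y ≤ ((g • Q : Sylow 5 G) : Subgroup G) ↔ Y ≤ (Q : Subgroup G) := by
  rw [Sylow.coe_subgroup_smul]
  exact Subgroup.pointwise_smul_le_pointwise_smul_iff

/-- Counting pairs of a conjugate and a Sylow subgroup containing it. -/
theorem count_conjugates [Fintype G] [Fintype (Sylow 5 G)] (hS : Setup G) (X : Subgroup G)
    (P : Sylow 5 G) :
    (conjugatesFs X).card * (Finset.univ.filter fun Q : Sylow 5 G => X ≤ (Q : Subgroup G)).card =
      21 * ((conjugatesFs X).filter fun Y => Y ≤ (P : Subgroup G)).card := by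
  have h := Finset.sum_card_bipartiteAbove_eq_sum_card_bipartiteBelow
    (s := conjugatesFs X) (t := (Finset.univ : Finset (Sylow 5 G)))
    (fun (Y : Subgroup G) (Q : Sylow 5 G) => Y ≤ (Q : Subgroup G))
  rw [Finset.sum_congr rfl
      (g := fun _ => (Finset.univ.filter fun Q : Sylow 5 G => X ≤ (Q : Subgroup G)).card),
    Finset.sum_congr rfl (s₁ := (Finset.univ : Finset (Sylow 5 G)))
      (g := fun _ => ((conjugatesFs X).filter fun Y => Y ≤ (P : Subgroup G)).card),
    Finset.sum_const, Finset.sum_const, smul_eq_mul, smul_eq_mul, Finset.card_univ,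
    ← Nat.card_eq_fintype_card (α := Sylow 5 G), hS.card_sylow] at h
  · exact h
  · intro Q _
    obtain ⟨g, rfl⟩ := exists_smul_eq G P Q
    rw [Finset.bipartiteBelow]
    refine Finset.card_nbij' (fun Y => MulAut.conj g⁻¹ • Y) (fun Y => MulAut.conj g • Y) ?_ ?_ ?_ ?_
    · intro Y hY
      simp only [Finset.coe_filter, Set.mem_ofPred_eq] at hY ⊢
      refine ⟨conj_smul_mem hY.1 _, ?_⟩
      have := (smul_le_smul_iff g⁻¹ Y (g • P)).mpr hY.2
      rwa [inv_smul_smul] at this
    · intro Y hY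
      simp only [Finset.coe_filter, Set.mem_ofPred_eq] at hY ⊢
      exact ⟨conj_smul_mem hY.1 _, (smul_le_smul_iff g Y P).mpr hY.2⟩
    · intro Y _; simp [conj_smul_smul]
    · intro Y _; simp [conj_smul_smul]
  · intro Y hY
    obtain ⟨g, -, rfl⟩ := Finset.mem_image.mp hY
    rw [Finset.bipartiteAbove]
    refine Finset.card_nbij' (fun Q => g⁻¹ • Q) (fun Q => g • Q) ?_ ?_ ?_ ?_
    · intro Q hQ
      simp only [Finset.coe_filter, Finset.mem_univ, true_and, Set.mem_ofPred_eq] at hQ ⊢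
      rw [← smul_le_smul_iff g X (g⁻¹ • Q), smul_inv_smul]
      exact hQ
    · intro Q hQ
      simp only [Finset.coe_filter, Finset.mem_univ, true_and, Set.mem_ofPred_eq] at hQ ⊢
      exact (smul_le_smul_iff g X Q).mpr hQ
    · intro Q _; simp
    · intro Q _; simp

theorem card_filter_le_zpowers [Fintype (Sylow 5 G)] {x : G} (hx : x ^ 5 = 1) :
    (Finset.univ.filter fun Q : Sylow 5 G => zpowers x ≤ (Q : Subgroup G)).card =
      Nat.card (fixedBy (Sylow 5 G) x) := by
  rw [Nat.card_eq_fintype_card, ← Set.toFinset_card]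
  congr 1
  ext Q
  simp only [Finset.mem_filter, Finset.mem_univ, true_and, Set.mem_toFinset, mem_fixedBy,
    zpowers_le, mem_iff_smul hx]

theorem card_zpowers_five {x : G} (hx : x ^ 5 = 1) (hx1 : x ≠ 1) : Nat.card (zpowers x) = 5 := by
  rw [Nat.card_zpowers, orderOf_eq_prime hx hx1]

theorem eq_zpowers_of_mem {Y : Subgroup G} (hY : Nat.card Y = 5) {y : G} (hy : y ∈ Y) (hy1 : y ≠ 1) :
    Y = zpowers y := by
  have h5 : y ^ 5 = 1 := by
    have h : (⟨y, hy⟩ : Y) ^ Nat.card Y = 1 := pow_card_eq_one'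
    rw [hY] at h
    exact congrArg Subtype.val h
  exact (eq_of_le_of_card_ge (zpowers_le.mpr hy) (by rw [hY, card_zpowers_five h5 hy1])).symm

/-- No non-trivial 5-element fixes sixteen points. -/
theorem card_fixedBy_ne_sixteen (hS : Setup G) {x : G} (hx : x ^ 5 = 1) :
    Nat.card (fixedBy (Sylow 5 G) x) ≠ 16 := by
  intro h16
  haveI := Fintype.ofFinite G
  haveI := Fintype.ofFinite (Sylow 5 G)
  have hx1 : x ≠ 1 := by
    rintro rfl
    rw [show fixedBy (Sylow 5 G) (1 : G) = Set.univ by ext; simp] at h16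
    rw [Nat.card_coe_set_eq, Set.ncard_univ, hS.card_sylow] at h16
    norm_num at h16
  obtain ⟨⟨P, hP⟩⟩ : Nonempty (fixedBy (Sylow 5 G) x) :=
    (Nat.card_pos_iff.mp (h16 ▸ (by norm_num : 0 < 16))).1
  set X := zpowers x with hX
  have hcount := count_conjugates hS X P
  rw [card_filter_le_zpowers hx, h16] at hcount
  set C := (conjugatesFs X).filter fun Y => Y ≤ (P : Subgroup G) with hC
  have hpos : 0 < C.card := Finset.card_pos.mpr ⟨X, Finset.mem_filter.mpr
    ⟨Finset.mem_image.mpr ⟨1, Finset.mem_univ _, by simp⟩, zpowers_le.mpr ((mem_iff_smul hx).mpr hP)⟩⟩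
  -- each such conjugate moves exactly one orbit
  have hconj : ∀ Y ∈ C, ∃ y : G, y ^ 5 = 1 ∧ y ∈ (P : Subgroup G) ∧ Y = zpowers y ∧
      Nat.card (fixedBy (Sylow 5 G) y) = 16 := by
    intro Y hY
    obtain ⟨hY1, hY2⟩ := Finset.mem_filter.mp hY
    obtain ⟨g, -, rfl⟩ := Finset.mem_image.mp hY1
    have hy : (g * x * g⁻¹) ^ 5 = 1 := by rw [conj_pow, hx, mul_one, mul_inv_cancel]
    have hz : MulAut.conj g • X = zpowers (g * x * g⁻¹) := by
      rw [hX, Subgroup.pointwise_smul_def]
      exact MonoidHom.map_zpowers _ x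
    refine ⟨g * x * g⁻¹, hy, hY2 (hz ▸ mem_zpowers _), hz, ?_⟩
    rw [← h16]
    refine Nat.card_congr (Equiv.subtypeEquiv (MulAction.toPerm g⁻¹) fun Q => ?_)
    show (g * x * g⁻¹) • Q = Q ↔ x • g⁻¹ • Q = g⁻¹ • Q
    rw [mul_smul, mul_smul, eq_inv_smul_iff]
  have hle : C.card ≤ (orbitFam P).card := by
    have hmoved : ∀ Y ∈ C, ∃ O ∈ orbitFam P, ∀ y ∈ Y, ∀ R, R ∉ O → y • R = R := by
      intro Y hY
      obtain ⟨y, hy, hyP, rfl, hf⟩ := hconj Y hY
      obtain ⟨Q, hQ⟩ : ∃ Q, y • Q ≠ Q := by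
        by_contra h
        push_neg at h
        rw [show fixedBy (Sylow 5 G) y = Set.univ from Set.eq_univ_of_forall h,
          Nat.card_coe_set_eq, Set.ncard_univ, hS.card_sylow] at hf
        norm_num at hf
      have hQP : Q ≠ P := fun h => hQ (h ▸ (mem_iff_smul hy).mp hyP)
      refine ⟨_, Finset.mem_image.mpr ⟨Q, Finset.mem_erase.mpr ⟨hQP, Finset.mem_univ _⟩, rfl⟩, ?_⟩
      have hsub : (orbit (P : Subgroup G) Q) ⊆ (fixedBy (Sylow 5 G) y)ᶜ := by
        intro R hR hfix
        exact hQ (mem_orbit_fixed hS hyP hfix (by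
          rw [orbit_eq_iff.mpr hR]; exact mem_orbit_self Q))
      have heq : orbit (P : Subgroup G) Q = (fixedBy (Sylow 5 G) y)ᶜ := by
        refine Set.eq_of_subset_of_ncard_le hsub ?_
        rw [Set.ncard_compl, hS.card_sylow, ← Nat.card_coe_set_eq, hf, ← Nat.card_coe_set_eq,
          orbit_card hS hQP]
      intro z hz R hR
      rw [Set.mem_toFinset, heq, Set.mem_compl_iff, not_not] at hR
      obtain ⟨k, rfl⟩ := mem_zpowers_iff.mp hz
      exact smul_eq_iff.mpr (zpow_mem (smul_eq_iff.mp hR) k)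
    choose f hf1 hf2 using hmoved
    refine Finset.card_le_card_of_injOn (fun Y => if h : Y ∈ C then f Y h else ∅)
      (fun Y hY => by simp [show Y ∈ C from hY, hf1 Y hY]) ?_
    intro Y hY Z hZ hYZ
    simp only [Finset.mem_coe] at hY hZ
    simp only [hY, hZ, dif_pos] at hYZ
    obtain ⟨y, hy, hyP, rfl, hfy⟩ := hconj Y hY
    obtain ⟨z, hz, hzP, rfl, hfz⟩ := hconj Z hZ
    obtain ⟨Q, hQ, hQO⟩ := Finset.mem_image.mp (hf1 _ hY)
    have hQP := (Finset.mem_erase.mp hQ).1
    have hyQ : y • Q ≠ Q := by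
      intro h
      have : fixedBy (Sylow 5 G) y = Set.univ := Set.eq_univ_of_forall fun R => by
        by_cases hR : R ∈ f (zpowers y) hY
        · rw [← hQO, Set.mem_toFinset] at hR
          exact mem_orbit_fixed hS hyP h hR
        · exact hf2 _ hY y (mem_zpowers y) R hR
      rw [this, Nat.card_coe_set_eq, Set.ncard_univ, hS.card_sylow] at hfy
      norm_num at hfy
    -- some power of `y` agrees with `z` at `Q`
    have horb : orbit (zpowers y) Q = orbit (P : Subgroup G) Q := by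
      refine Set.eq_of_subset_of_ncard_le ?_ ?_
      · rintro _ ⟨⟨w, hw⟩, rfl⟩; exact ⟨⟨w, (zpowers_le.mpr hyP) hw⟩, rfl⟩
      · obtain ⟨n, hn⟩ := (IsPGroup.of_card (n := 1)
          (by rw [card_zpowers_five hy (fun h => hyQ (by rw [h, one_smul]))]; rfl) :
            IsPGroup 5 (zpowers y)).card_orbit Q
        have hn0 : n ≠ 0 := by
          intro h
          rw [h, pow_zero] at hn
          haveI := (Nat.card_eq_one_iff_unique.mp hn).1
          exact hyQ (congrArg Subtype.val (Subsingleton.elim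
            (⟨(⟨y, mem_zpowers y⟩ : zpowers y) • Q, mem_orbit Q _⟩ : orbit (zpowers y) Q)
            ⟨Q, mem_orbit_self Q⟩))
        rw [← Nat.card_coe_set_eq, ← Nat.card_coe_set_eq, orbit_card hS hQP, hn]
        exact Nat.le_self_pow hn0 5
    obtain ⟨⟨w, hw⟩, hwQ⟩ : z • Q ∈ orbit (zpowers y) Q := by
      rw [horb]; exact ⟨⟨z, hzP⟩, rfl⟩
    have hwP : w ∈ (P : Subgroup G) := zpowers_le.mpr hyP hw
    have h1 : w⁻¹ * z = 1 := by
      refine hS.faithful _ fun R => ?_
      by_cases hR : R ∈ f (zpowers y) hY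
      · rw [← hQO, Set.mem_toFinset] at hR
        refine mem_orbit_fixed hS (mul_mem (inv_mem hwP) hzP) ?_ hR
        rw [mul_smul, inv_smul_eq_iff]
        exact hwQ.symm
      · rw [mul_smul, hf2 _ hZ z (mem_zpowers z) R (hYZ ▸ hR),
          hf2 _ hY w⁻¹ (inv_mem hw) R hR]
    have hzy : z ∈ zpowers y := by rw [inv_mul_eq_one] at h1; exact h1 ▸ hw
    exact (eq_zpowers_of_mem (card_zpowers_five hy (fun h => hyQ (by rw [h, one_smul]))) hzy
      (fun h => by
        rw [h, show fixedBy (Sylow 5 G) (1 : G) = Set.univ by ext; simp, Nat.card_coe_set_eq,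
          Set.ncard_univ, hS.card_sylow] at hfz
        norm_num at hfz))
  rw [card_orbitFam hS P] at hle
  omega

theorem card_fixedBy_le_six (hS : Setup G) {x : G} (hx : x ^ 5 = 1) (hx1 : x ≠ 1) :
    Nat.card (fixedBy (Sylow 5 G) x) ≤ 6 := by
  obtain ⟨h1, h2⟩ := card_fixedBy hS hx hx1
  have := card_fixedBy_ne_eleven hS hx
  have := card_fixedBy_ne_sixteen hS hx
  omega

theorem kerAt_inf_eq_bot (hS : Setup G) {P Q R : Sylow 5 G} (hQ : Q ≠ P) (hR : R ≠ P)
    (hne : R ∉ orbit (P : Subgroup G) Q) : kerAt P Q ⊓ kerAt P R = ⊥ := by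
  rw [eq_bot_iff]
  rintro x ⟨⟨hxP, hxQ⟩, -, hxR⟩
  by_contra hx1
  have hle := card_fixedBy_le_six hS (pow_five hS hxP) (fun h => hx1 (Subgroup.mem_bot.mpr h))
  have hsub : insert P (orbit (P : Subgroup G) Q ∪ orbit (P : Subgroup G) R) ⊆
      fixedBy (Sylow 5 G) x := by
    rintro S (rfl | hS' | hS')
    · exact smul_eq_iff.mpr (le_normalizer hxP)
    · exact mem_orbit_fixed hS hxP hxQ hS'
    · exact mem_orbit_fixed hS hxP hxR hS'
  have hPnot : P ∉ orbit (P : Subgroup G) Q ∪ orbit (P : Subgroup G) R := by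
    rintro (⟨g, hg⟩ | ⟨g, hg⟩)
    · exact hQ (MulAction.injective (g : G) (hg.trans (smul_eq_iff.mpr (le_normalizer g.2)).symm))
    · exact hR (MulAction.injective (g : G) (hg.trans (smul_eq_iff.mpr (le_normalizer g.2)).symm))
  have hdisj : Disjoint (orbit (P : Subgroup G) Q) (orbit (P : Subgroup G) R) := by
    rw [Set.disjoint_left]
    intro S h1 h2
    apply hne
    rw [← orbit_eq_iff.mpr h1, orbit_eq_iff.mpr h2]
    exact mem_orbit_self R
  have h := Set.ncard_le_ncard hsub
  rw [Set.ncard_insert_of_notMem hPnot, Set.ncard_union_eq hdisj, ← Nat.card_coe_set_eq,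
    ← Nat.card_coe_set_eq, ← Nat.card_coe_set_eq, orbit_card hS hQ, orbit_card hS hR] at h
  omega

theorem card_sylow_le (hS : Setup G) (P : Sylow 5 G) : Nat.card (P : Subgroup G) ≤ 25 := by
  haveI := Fintype.ofFinite (Sylow 5 G)
  obtain ⟨A, hA, B, hB, hne⟩ := Finset.one_lt_card.mp
    (show 1 < (orbitFam P).card by rw [card_orbitFam hS P]; norm_num)
  obtain ⟨Q, hQ, rfl⟩ := Finset.mem_image.mp hA
  obtain ⟨R, hR, rfl⟩ := Finset.mem_image.mp hB
  have hQP := (Finset.mem_erase.mp hQ).1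
  have hRP := (Finset.mem_erase.mp hR).1
  have hinf := kerAt_inf_eq_bot hS hQP hRP fun h => hne (by
    rw [Set.toFinset_inj]; exact (orbit_eq_iff.mpr h).symm)
  -- `kerAt P Q` embeds in the quotient by the stabiliser of `R`
  have hcard : Nat.card (kerAt P Q) ≤ 5 := by
    rw [← fixer_index hS hRP, Subgroup.index_eq_card]
    refine Nat.card_le_card_of_injective
      (fun x : kerAt P Q => ((⟨x, x.2.1⟩ : (P : Subgroup G)) : (P : Subgroup G) ⧸ fixer P R)) ?_
    intro x y h
    rw [QuotientGroup.eq] at h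
    have h' : (x : G)⁻¹ * y ∈ kerAt P Q ⊓ kerAt P R :=
      ⟨(kerAt P Q).mul_mem ((kerAt P Q).inv_mem x.2) y.2,
        (P : Subgroup G).mul_mem ((P : Subgroup G).inv_mem x.2.1) y.2.1, h⟩
    rw [hinf, Subgroup.mem_bot, inv_mul_eq_one] at h'
    exact Subtype.ext h'
  have := card_kerAt hS hQP
  omega

end CfsgLib.Sylow21
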