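/-
The reduced group does not have Sylow 5-subgroups of order 25.
-/
import Cfsg.Agent.Sylow21.RankHigh

set_option autoImplicit false

namespace CfsgLib.Sylow21

open MulAction Subgroup
open scoped Pointwise Classical

variable {G : Type*} [Group G] [Finite G]

local instance factFive2 : Fact (Nat.Prime 5) := ⟨by norm_num⟩

theorem smul_card {Z : Subgroup G} (g : G) :
    Nat.card (MulAut.conj g • Z : Subgroup G) = Nat.card Z :=
  (Nat.card_congr (Subgroup.equivSMul (MulAut.conj g) Z).toEquiv).symm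

/-- An element of order 5 normalising a subgroup of order 5 centralises it. -/
theorem commute_of_smul_eq {Z : Subgroup G} (hZ : Nat.card Z = 5) {y : G} (hy : y ^ 5 = 1)
    (h : MulAut.conj y • Z = Z) : ∀ z ∈ Z, y * z = z * y := by
  have hyN : y ∈ normalizer (Z : Set G) := by
    rw [mem_normalizer_iff]
    intro z
    conv_rhs => rw [← h]
    exact (Subgroup.smul_mem_pointwise_smul_iff (a := MulAut.conj y) (S := Z) (x := z)).symm
  haveI : IsCyclic Z := isCyclic_of_prime_card hZ
  have hdvd : orderOf (Z.normalizerMonoidHom ⟨y, hyN⟩) ∣ Nat.gcd 5 4 := by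
    refine Nat.dvd_gcd ?_ ?_
    · exact (orderOf_map_dvd _ _).trans (orderOf_dvd_of_pow_eq_one (Subtype.ext hy))
    · have h4 : Nat.card (MulAut Z) = 4 := by
        rw [IsCyclic.card_mulAut, hZ, Nat.totient_prime (by norm_num)]
      exact h4 ▸ _root_.orderOf_dvd_natCard _
  have hker : Z.normalizerMonoidHom ⟨y, hyN⟩ = 1 :=
    orderOf_eq_one_iff.mp (Nat.dvd_one.mp hdvd)
  rw [← MonoidHom.mem_ker, normalizerMonoidHom_ker, mem_subgroupOf] at hker
  exact fun z hz => (mem_centralizer_iff.mp hker z hz).symm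

theorem smul_eq_self_of_mem (hS : Setup G) {P : Sylow 5 G} {y : G} (hy : y ∈ (P : Subgroup G))
    {Z : Subgroup G} (hZ : Z ≤ (P : Subgroup G)) : MulAut.conj y • Z = Z := by
  ext z
  have key : ∀ w ∈ (P : Subgroup G), (MulAut.conj y)⁻¹ • w = w := fun w hw => by
    rw [← map_inv, MulAut.smul_def, MulAut.conj_apply, inv_inv, mul_assoc, comm hS hw hy,
      inv_mul_cancel_left]
  rw [Subgroup.mem_pointwise_smul_iff_inv_smul_mem]
  constructor
  · intro h
    have hz := key _ (hZ h)
    rw [smul_left_cancel_iff] at hz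
    rw [hz] at h
    exact h
  · intro h
    rwa [key z (hZ h)]

/-- In the reduced group an element of order 5 with a unique fixed point normalises only the
subgroups of order 5 of that Sylow subgroup. -/
theorem le_of_fixedBy_one (hS : Setup G) {P : Sylow 5 G} {y : G} (hy : y ∈ (P : Subgroup G))
    (h1 : Nat.card (fixedBy (Sylow 5 G) y) = 1) {Z : Subgroup G} (hZ : Nat.card Z = 5)
    (hfix : MulAut.conj y • Z = Z) : Z ≤ (P : Subgroup G) := by
  have hy5 := pow_five hS hy
  have hcomm := commute_of_smul_eq hZ hy5 hfix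
  intro z hz
  by_cases hz1 : z = 1
  · rw [hz1]; exact one_mem _
  have hz5 : z ^ 5 = 1 := by
    have h : (⟨z, hz⟩ : Z) ^ Nat.card Z = 1 := pow_card_eq_one'
    rw [hZ] at h
    exact congrArg Subtype.val h
  -- `z` permutes the fixed points of `y`, hence fixes the only one
  have hP : P ∈ fixedBy (Sylow 5 G) y := smul_eq_iff.mpr (le_normalizer hy)
  have hzP : z • P ∈ fixedBy (Sylow 5 G) y := by
    show y • z • P = z • P
    rw [← mul_smul, hcomm z hz, mul_smul, hP]
  obtain ⟨a, ha⟩ := Set.ncard_eq_one.mp ((Nat.card_coe_set_eq _).symm.trans h1)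
  rw [ha, Set.mem_singleton_iff] at hP hzP
  exact (mem_iff_smul hz5).mpr (hzP.trans hP.symm)

theorem card_ne_25 (hS : Setup G) (P : Sylow 5 G) : Nat.card (P : Subgroup G) ≠ 25 := by
  intro h25
  haveI := Fintype.ofFinite G
  haveI := Fintype.ofFinite (Sylow 5 G)
  -- the four kernels
  have hker5 : ∀ Q : Sylow 5 G, Q ≠ P → Nat.card (kerAt P Q) = 5 := fun Q hQ => by
    have := card_kerAt hS hQ
    omega
  let K : Finset (Subgroup G) := (Finset.univ.erase P).image (kerAt P)
  have hKle : K.card ≤ 4 := by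
    rw [← card_orbitFam hS P]
    refine Finset.card_le_card_of_surjOn
      (fun O => if h : O.Nonempty then kerAt P h.choose else ⊥) ?_
    intro Y hY
    obtain ⟨Q, hQ, rfl⟩ := Finset.mem_image.mp hY
    have hne : ((orbit (P : Subgroup G) Q).toFinset).Nonempty :=
      ⟨Q, Set.mem_toFinset.mpr (mem_orbit_self Q)⟩
    refine ⟨_, Finset.mem_image.mpr ⟨Q, hQ, rfl⟩, ?_⟩
    simp only [hne, dif_pos]
    have hR := Set.mem_toFinset.mp hne.choose_spec
    ext x
    constructor
    · rintro ⟨hxP, hxR⟩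
      exact ⟨hxP, mem_orbit_fixed hS hxP hxR (by rw [orbit_eq_iff.mpr hR]; exact mem_orbit_self Q)⟩
    · rintro ⟨hxP, hxQ⟩
      exact ⟨hxP, mem_orbit_fixed hS hxP hxQ hR⟩
  obtain ⟨Q₀, hQ₀⟩ := exists_ne hS P
  set X := kerAt P Q₀ with hX
  have hX5 : Nat.card X = 5 := hker5 Q₀ hQ₀
  obtain ⟨⟨x, hxX⟩, hx1'⟩ : ∃ x : X, x ≠ 1 := by
    haveI : Nontrivial X := Finite.one_lt_card_iff_nontrivial.mp (by rw [hX5]; norm_num)
    exact _root_.exists_ne 1
  have hx1 : x ≠ 1 := fun h => hx1' (Subtype.ext h)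
  have hx5 : x ^ 5 = 1 := pow_five hS hxX.1
  have hXz : X = zpowers x := eq_zpowers_of_mem hX5 hxX hx1
  have hf : Nat.card (fixedBy (Sylow 5 G) x) = 6 := by
    obtain ⟨h1, -⟩ := card_fixedBy hS hx5 hx1
    have h2 := card_fixedBy_le_six hS hx5 hx1
    have h3 : 1 < Nat.card (fixedBy (Sylow 5 G) x) := by
      rw [Nat.card_coe_set_eq, Set.one_lt_ncard]
      exact ⟨P, smul_eq_iff.mpr (le_normalizer hxX.1), Q₀, hxX.2, hQ₀.symm⟩
    omega
  have hcount := count_conjugates hS (zpowers x) P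
  rw [card_filter_le_zpowers hx5, hf, ← hXz] at hcount
  set 𝒳 := conjugatesFs X with h𝒳
  set C := 𝒳.filter fun Y => Y ≤ (P : Subgroup G) with hC
  have hmem5 : ∀ Y ∈ 𝒳, Nat.card Y = 5 := by
    intro Y hY
    obtain ⟨g, -, rfl⟩ := Finset.mem_image.mp hY
    rw [smul_card, hX5]
  have hCK : C ⊆ K := by
    intro Y hY
    obtain ⟨hY1, hY2⟩ := Finset.mem_filter.mp hY
    obtain ⟨g, -, rfl⟩ := Finset.mem_image.mp hY1
    set y := g * x * g⁻¹ with hy
    have hyY : y ∈ MulAut.conj g • X := Subgroup.smul_mem_pointwise_smul x (MulAut.conj g) X hxX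
    have hy1 : y ≠ 1 := fun h => hx1 (by simpa [hy] using h)
    obtain ⟨Q, hQP, hQ⟩ : ∃ Q, Q ≠ P ∧ y • Q = Q := by
      have hcard : 1 < Nat.card (fixedBy (Sylow 5 G) y) := by
        have : Nat.card (fixedBy (Sylow 5 G) y) = Nat.card (fixedBy (Sylow 5 G) x) :=
          Nat.card_congr (Equiv.subtypeEquiv (MulAction.toPerm g⁻¹) fun Q => by
            show (g * x * g⁻¹) • Q = Q ↔ x • g⁻¹ • Q = g⁻¹ • Q
            rw [mul_smul, mul_smul, eq_inv_smul_iff])
        omega
      rw [Nat.card_coe_set_eq, Set.one_lt_ncard] at hcard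
      obtain ⟨a, ha, b, hb, hab⟩ := hcard
      by_cases h : a = P
      · exact ⟨b, fun hb' => hab (h.trans hb'.symm), hb⟩
      · exact ⟨a, h, ha⟩
    refine Finset.mem_image.mpr ⟨Q, Finset.mem_erase.mpr ⟨hQP, Finset.mem_univ _⟩, ?_⟩
    rw [eq_zpowers_of_mem (hmem5 _ hY1) hyY hy1]
    exact eq_zpowers_of_mem (hker5 Q hQP) ⟨hY2 hyY, hQ⟩ hy1
  have hCle : C.card ≤ 4 := (Finset.card_le_card hCK).trans hKle
  have hXC : X ∈ C := Finset.mem_filter.mpr
    ⟨Finset.mem_image.mpr ⟨1, Finset.mem_univ _, by simp⟩, fun z hz => hz.1⟩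
  have hCpos : 0 < C.card := Finset.card_pos.mpr ⟨X, hXC⟩
  -- the action on the conjugates
  let f : G →* Equiv.Perm 𝒳 :=
    { toFun := fun g =>
        { toFun := fun Y => ⟨MulAut.conj g • (Y : Subgroup G), conj_smul_mem Y.2 g⟩
          invFun := fun Y => ⟨MulAut.conj g⁻¹ • (Y : Subgroup G), conj_smul_mem Y.2 g⁻¹⟩
          left_inv := fun Y => Subtype.ext (by simp [conj_smul_smul])
          right_inv := fun Y => Subtype.ext (by simp [conj_smul_smul]) }
      map_one' := Equiv.ext fun Y => Subtype.ext (by simp)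
      map_mul' := fun g h => Equiv.ext fun Y => Subtype.ext (by
        show MulAut.conj (g * h) • (Y : Subgroup G) = MulAut.conj g • MulAut.conj h • (Y : Subgroup G)
        rw [conj_smul_smul]) }
  have hfval : ∀ (g : G) (Y : 𝒳), ((f g Y : 𝒳) : Subgroup G) = MulAut.conj g • (Y : Subgroup G) :=
    fun g Y => rfl
  have hf1 : f ≠ 1 := by
    intro h
    have hfix : ∀ g : G, MulAut.conj g • X = X := fun g => by
      rw [← hfval g ⟨X, (Finset.mem_filter.mp hXC).1⟩, h]; rfl
    haveI := isSimple hS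
    have hn : X.Normal := ⟨fun z hz g => by
      have := Subgroup.smul_mem_pointwise_smul z (MulAut.conj g) X hz
      rwa [hfix g] at this⟩
    rcases IsSimpleGroup.eq_bot_or_eq_top_of_normal X hn with h' | h'
    · rw [h', Subgroup.card_bot] at hX5; norm_num at hX5
    · have hG := card_sylow_mul hS P
      rw [h', Subgroup.card_top] at hX5
      have hd := Subgroup.card_subgroup_dvd_card (P : Subgroup G)
      rw [h25, hX5] at hd
      norm_num at hd
  have hinj := perm_injective hS f hf1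
  rcases Nat.lt_or_ge 𝒳.card 10 with hm | hm
  · -- seven conjugates
    have hd : 25 ∣ (𝒳.card).factorial := by
      rw [← h25, ← Fintype.card_coe 𝒳, ← Fintype.card_perm, ← Nat.card_eq_fintype_card]
      exact (Subgroup.card_subgroup_dvd_card _).trans (Subgroup.card_dvd_of_injective f hinj)
    have hm7 : 𝒳.card = 7 := by omega
    rw [hm7] at hd
    norm_num [Nat.factorial] at hd
  · have hm14 : 𝒳.card = 14 ∧ C.card = 4 := by omega
    obtain ⟨hm14, hc4⟩ := hm14
    have hCeq : C = K := Finset.eq_of_subset_of_card_le hCK (by omega)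
    -- fixed conjugates
    have hfixC : ∀ y ∈ (P : Subgroup G), ∀ Z ∈ C, MulAut.conj y • Z = Z := fun y hy Z hZ =>
      smul_eq_self_of_mem hS hy (Finset.mem_filter.mp hZ).2
    let Fx : G → Finset (Subgroup G) := fun y => 𝒳.filter fun Z => MulAut.conj y • Z = Z
    have hout : (𝒳 \ C).card = 10 := by
      rw [Finset.card_sdiff_of_subset (Finset.filter_subset _ _), hm14, hc4]
    obtain ⟨A, hA⟩ : (𝒳 \ C).Nonempty := Finset.card_pos.mp (by omega)
    obtain ⟨hA𝒳, hAC⟩ := Finset.mem_sdiff.mp hA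
    -- orbit and stabiliser of an outside conjugate
    let Ost : Subgroup G → Finset (Subgroup G) :=
      fun Z => ((Finset.univ.filter fun y : G => y ∈ (P : Subgroup G))).image
        fun y => MulAut.conj y • Z
    let Lst : Subgroup G → Subgroup G :=
      fun Z => (P : Subgroup G) ⊓ (stabilizer (MulAut G) Z).comap MulAut.conj
    have hOst : ∀ Z ∈ 𝒳 \ C, (Ost Z).card = 5 ∧ Nat.card (Lst Z) = 5 ∧ Ost Z ⊆ 𝒳 \ C := by
      intro Z hZ
      obtain ⟨hZ𝒳, hZC⟩ := Finset.mem_sdiff.mp hZ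
      have hsub : Ost Z ⊆ 𝒳 \ C := by
        intro W hW
        obtain ⟨y, hy, rfl⟩ := Finset.mem_image.mp hW
        have hyP := (Finset.mem_filter.mp hy).2
        refine Finset.mem_sdiff.mpr ⟨conj_smul_mem hZ𝒳 y, fun h => hZC ?_⟩
        have := hfixC y⁻¹ (inv_mem hyP) _ h
        rw [conj_smul_smul, inv_mul_cancel, map_one, one_smul] at this
        rw [this]; exact h
      letI : MulAction (P : Subgroup G) (Subgroup G) :=
        MulAction.compHom _ ((MulAut.conj : G →* MulAut G).comp (P : Subgroup G).subtype)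
      have hsmul : ∀ (y : (P : Subgroup G)) (W : Subgroup G),
          y • W = MulAut.conj (y : G) • W := fun y W => rfl
      have hO : (orbit (P : Subgroup G) Z).ncard = (Ost Z).card := by
        rw [← Set.ncard_coe_finset]
        congr 1
        ext W
        simp only [Ost, Finset.coe_image, Finset.coe_filter, Finset.mem_univ, true_and,
          Set.mem_image, Set.mem_ofPred_eq]
        constructor
        · rintro ⟨y, rfl⟩; exact ⟨y, y.2, rfl⟩
        · rintro ⟨y, hy, rfl⟩; exact ⟨⟨y, hy⟩, rfl⟩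
      have hst : (stabilizer (P : Subgroup G) Z).map (P : Subgroup G).subtype = Lst Z := by
        ext y
        constructor
        · rintro ⟨w, hw, rfl⟩; exact ⟨w.2, hw⟩
        · rintro ⟨h1, h2⟩; exact ⟨⟨y, h1⟩, h2, rfl⟩
      obtain ⟨n, hn⟩ := P.2.card_orbit Z
      have hmul := Subgroup.card_mul_index (stabilizer (P : Subgroup G) Z)
      rw [index_stabilizer, hO, h25, Nat.card_congr ((stabilizer (P : Subgroup G) Z).equivMapOfInjective
        _ (P : Subgroup G).subtype_injective).toEquiv, hst] at hmul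
      rw [Nat.card_coe_set_eq, hO] at hn
      have hn0 : n ≠ 0 := by
        intro h0
        rw [h0, pow_zero, Finset.card_eq_one] at hn
        obtain ⟨W, hW⟩ := hn
        -- `P` fixes `Z`, so `Z ≤ P`
        apply hZC
        refine Finset.mem_filter.mpr ⟨hZ𝒳, fun z hz => ?_⟩
        have hfixall : ∀ y ∈ (P : Subgroup G), MulAut.conj y • Z = Z := fun y hy => by
          have h1 : MulAut.conj y • Z ∈ Ost Z :=
            Finset.mem_image.mpr ⟨y, Finset.mem_filter.mpr ⟨Finset.mem_univ _, hy⟩, rfl⟩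
          have h2 : Z ∈ Ost Z := Finset.mem_image.mpr
            ⟨1, Finset.mem_filter.mpr ⟨Finset.mem_univ _, one_mem _⟩, by simp⟩
          rw [hW, Finset.mem_singleton] at h1 h2
          rw [h1, ← h2]
        have hz5 : z ^ 5 = 1 := by
          have h : (⟨z, hz⟩ : Z) ^ Nat.card Z = 1 := pow_card_eq_one'
          rw [hmem5 Z hZ𝒳] at h
          exact congrArg Subtype.val h
        refine (mem_iff_smul hz5).mpr (smul_eq_iff.mpr (mem_normalizer_iff.mpr fun w => ?_))
        have hcz : ∀ w ∈ (P : Subgroup G), z * w * z⁻¹ = w := fun w hw => by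
          rw [← commute_of_smul_eq (hmem5 Z hZ𝒳) (pow_five hS hw) (hfixall w hw) z hz,
            mul_inv_cancel_right]
        constructor
        · intro hw; rw [hcz w hw]; exact hw
        · intro hw
          have hcomm := commute_of_smul_eq (hmem5 Z hZ𝒳) (pow_five hS hw) (hfixall _ hw) z hz
          have : z * w * z⁻¹ = w := by
            have h' : (z * w * z⁻¹) * z = z * w := inv_mul_cancel_right _ _
            rw [hcomm] at h'
            exact mul_left_cancel h'
          rwa [this] at hw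
      have h10 : (Ost Z).card ≤ 10 := hout ▸ Finset.card_le_card hsub
      have hn1 : n = 1 := by
        rw [hn] at h10
        have : ¬ 2 ≤ n := fun h => by
          have := (Nat.pow_le_pow_right (show 1 ≤ 5 by norm_num) h).trans h10
          norm_num at this
        omega
      rw [hn1, pow_one] at hn
      refine ⟨hn, ?_, hsub⟩
      rw [hn] at hmul
      omega
    obtain ⟨hA5, hAL, hAsub⟩ := hOst A hA
    obtain ⟨B, hB⟩ : ((𝒳 \ C) \ Ost A).Nonempty := Finset.card_pos.mp (by
      rw [Finset.card_sdiff_of_subset hAsub]; omega)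
    obtain ⟨hB', hBA⟩ := Finset.mem_sdiff.mp hB
    obtain ⟨hB5, hBL, hBsub⟩ := hOst B hB'
    have hmulP : ∀ y ∈ (P : Subgroup G), ∀ w ∈ (P : Subgroup G), ∀ Z : Subgroup G,
        MulAut.conj y • MulAut.conj w • Z = MulAut.conj w • MulAut.conj y • Z := fun y hy w hw Z => by
      rw [conj_smul_smul, conj_smul_smul, comm hS hy hw]
    have hdisj : Disjoint (Ost A) (Ost B) := by
      rw [Finset.disjoint_left]
      intro W h1 h2
      obtain ⟨y, hy, rfl⟩ := Finset.mem_image.mp h1
      obtain ⟨w, hw, hwB⟩ := Finset.mem_image.mp h2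
      refine hBA (Finset.mem_image.mpr ⟨w⁻¹ * y, Finset.mem_filter.mpr ⟨Finset.mem_univ _,
        mul_mem (inv_mem (Finset.mem_filter.mp hw).2) (Finset.mem_filter.mp hy).2⟩, ?_⟩)
      rw [← conj_smul_smul, ← hwB, conj_smul_smul, inv_mul_cancel, map_one, one_smul]
    have hunion : Ost A ∪ Ost B = 𝒳 \ C := Finset.eq_of_subset_of_card_le
      (Finset.union_subset hAsub hBsub) (by
        rw [Finset.card_union_of_disjoint hdisj, hA5, hB5]; omega)
    -- fixed counts
    have hFbase : ∀ y ∈ (P : Subgroup G), ∀ Z ∈ 𝒳 \ C, MulAut.conj y • Z = Z →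
        ∀ W ∈ Ost Z, MulAut.conj y • W = W := by
      intro y hy Z _ hyZ W hW
      obtain ⟨w, hw, rfl⟩ := Finset.mem_image.mp hW
      rw [hmulP y hy w (Finset.mem_filter.mp hw).2, hyZ]
    have hFmany : ∀ y ∈ (P : Subgroup G), ∀ Z ∈ 𝒳 \ C, MulAut.conj y • Z = Z → 5 ≤ (Fx y \ C).card := by
      intro y hy Z hZ hyZ
      rw [← (hOst Z hZ).1]
      refine Finset.card_le_card fun W hW => ?_
      obtain ⟨h1, h2⟩ := Finset.mem_sdiff.mp ((hOst Z hZ).2.2 hW)
      exact Finset.mem_sdiff.mpr ⟨Finset.mem_filter.mpr ⟨h1, hFbase y hy Z hZ hyZ W hW⟩, h2⟩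
    have hLK : ∀ Z ∈ 𝒳 \ C, Lst Z ∈ C := by
      intro Z hZ
      obtain ⟨⟨y, hy⟩, hy1'⟩ : ∃ y : Lst Z, y ≠ 1 := by
        haveI : Nontrivial (Lst Z) :=
          Finite.one_lt_card_iff_nontrivial.mp (by rw [(hOst Z hZ).2.1]; norm_num)
        exact _root_.exists_ne 1
      have hy1 : y ≠ 1 := fun h => hy1' (Subtype.ext h)
      obtain ⟨hmod, -⟩ := card_fixedBy hS (pow_five hS hy.1) hy1
      have h6 := card_fixedBy_le_six hS (pow_five hS hy.1) hy1
      rw [hCeq]
      rcases Nat.lt_or_ge 1 (Nat.card (fixedBy (Sylow 5 G) y)) with h2 | h2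
      · rw [Nat.card_coe_set_eq, Set.one_lt_ncard] at h2
        obtain ⟨a, ha, b, hb, hab⟩ := h2
        obtain ⟨Q, hQP, hQ⟩ : ∃ Q, Q ≠ P ∧ y • Q = Q := by
          by_cases h : a = P
          · exact ⟨b, fun hb' => hab (h.trans hb'.symm), hb⟩
          · exact ⟨a, h, ha⟩
        refine Finset.mem_image.mpr ⟨Q, Finset.mem_erase.mpr ⟨hQP, Finset.mem_univ _⟩, ?_⟩
        rw [eq_zpowers_of_mem (hOst Z hZ).2.1 hy hy1]
        exact eq_zpowers_of_mem (hker5 Q hQP) ⟨hy.1, hQ⟩ hy1
      · exfalso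
        obtain ⟨hZ1, hZ2⟩ := Finset.mem_sdiff.mp hZ
        exact hZ2 (Finset.mem_filter.mpr ⟨hZ1, le_of_fixedBy_one hS hy.1 (by omega) (hmem5 Z hZ1) hy.2⟩)
    -- pick a kernel fixing neither orbit
    obtain ⟨Y, hY, hYne⟩ := Finset.exists_mem_notMem_of_card_lt_card
      (show ({Lst A, Lst B} : Finset (Subgroup G)).card < C.card by
        have := Finset.card_insert_le (Lst A) {Lst B}
        rw [Finset.card_singleton] at this
        omega)
    have hYA : Y ≠ Lst A := fun h => hYne (by simp [h])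
    have hYB : Y ≠ Lst B := fun h => hYne (by simp [h])
    obtain ⟨hY𝒳, hYP⟩ := Finset.mem_filter.mp hY
    obtain ⟨hL𝒳, -⟩ := Finset.mem_filter.mp (hLK A hA)
    obtain ⟨g₁, -, hg₁⟩ := Finset.mem_image.mp hL𝒳
    obtain ⟨g₂, -, hg₂⟩ := Finset.mem_image.mp hY𝒳
    -- `Lst A = g • Y`
    set g := g₁ * g₂⁻¹ with hg
    have hgY : MulAut.conj g • Y = Lst A := by
      rw [← hg₂, conj_smul_smul, hg, inv_mul_cancel_right, hg₁]
    obtain ⟨⟨y, hy⟩, hy1'⟩ : ∃ y : Y, y ≠ 1 := by
      haveI : Nontrivial Y := Finite.one_lt_card_iff_nontrivial.mp (by rw [hmem5 Y hY𝒳]; norm_num)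
      exact _root_.exists_ne 1
    have hy1 : y ≠ 1 := fun h => hy1' (Subtype.ext h)
    have hyP : y ∈ (P : Subgroup G) := hYP hy
    have hsmallY : Fx y \ C = ∅ := by
      rw [Finset.eq_empty_iff_forall_notMem]
      intro W hW
      obtain ⟨hW1, hW2⟩ := Finset.mem_sdiff.mp hW
      obtain ⟨hW1', hWfix⟩ := Finset.mem_filter.mp hW1
      have hWu : W ∈ Ost A ∪ Ost B := by rw [hunion]; exact Finset.mem_sdiff.mpr ⟨hW1', hW2⟩
      have aux : ∀ Z ∈ 𝒳 \ C, W ∈ Ost Z → Y = Lst Z := by
        intro Z hZ hWZ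
        obtain ⟨w, hw, rfl⟩ := Finset.mem_image.mp hWZ
        have hwP := (Finset.mem_filter.mp hw).2
        have hyL : y ∈ Lst Z := ⟨hyP, by
          show MulAut.conj y • Z = Z
          have := hWfix
          rw [hmulP y hyP w hwP, smul_left_cancel_iff] at this
          exact this⟩
        rw [eq_zpowers_of_mem (hmem5 Y hY𝒳) hy hy1]
        exact (eq_zpowers_of_mem (hOst Z hZ).2.1 hyL hy1).symm
      rcases Finset.mem_union.mp hWu with h | h
      · exact hYA (aux A hA h)
      · exact hYB (aux B hB' h)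
    have hyA : g * y * g⁻¹ ∈ Lst A := hgY ▸ Subgroup.smul_mem_pointwise_smul y (MulAut.conj g) Y hy
    have hbigA := hFmany _ hyA.1 A hA hyA.2
    have hsame : (Fx (g * y * g⁻¹)).card = (Fx y).card := by
      refine Finset.card_nbij' (fun Z => MulAut.conj g⁻¹ • Z) (fun Z => MulAut.conj g • Z) ?_ ?_ ?_ ?_
      · intro Z hZ
        simp only [Fx, Finset.coe_filter, Set.mem_ofPred_eq] at hZ ⊢
        refine ⟨conj_smul_mem hZ.1 _, ?_⟩
        conv_rhs => rw [← hZ.2]
        rw [conj_smul_smul, conj_smul_smul]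
        congr 2; group
      · intro Z hZ
        simp only [Fx, Finset.coe_filter, Set.mem_ofPred_eq] at hZ ⊢
        refine ⟨conj_smul_mem hZ.1 _, ?_⟩
        conv_rhs => rw [← hZ.2]
        rw [conj_smul_smul, conj_smul_smul]
        congr 2; group
      · intro Z _; simp [conj_smul_smul]
      · intro Z _; simp [conj_smul_smul]
    have hsubC : ∀ w ∈ (P : Subgroup G), C ⊆ Fx w := fun w hw Z hZ =>
      Finset.mem_filter.mpr ⟨(Finset.mem_filter.mp hZ).1, hfixC w hw Z hZ⟩
    have h1 := Finset.card_sdiff_add_card_eq_card (hsubC y hyP)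
    have h2 := Finset.card_sdiff_add_card_eq_card (hsubC _ hyA.1)
    rw [hsmallY, Finset.card_empty] at h1
    omega

end CfsgLib.Sylow21
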