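/-
Parity in the reduced group, and small facts about permutations of four letters.
-/
import Cfsg.Agent.Sylow21.RankTwo

set_option autoImplicit false

namespace CfsgLib.Sylow21

open MulAction Subgroup

section
open scoped Classical

variable {G : Type*} [Group G] [Finite G]

/-- Every element acts as an even permutation. -/
theorem sign_eq_one (hS : Setup G) [Fintype (Sylow 5 G)] (g : G) :
    Equiv.Perm.sign (MulAction.toPermHom G (Sylow 5 G) g) = 1 := by
  haveI := isSimple hS
  set f := Equiv.Perm.sign.comp (MulAction.toPermHom G (Sylow 5 G)) with hf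
  rcases IsSimpleGroup.eq_bot_or_eq_top_of_normal f.ker inferInstance with h | h
  · obtain ⟨a, b, hab⟩ := not_comm hS
    exact absurd ((MonoidHom.ker_eq_bot_iff f).mp h (by rw [map_mul, map_mul, mul_comm])) hab
  · have : g ∈ f.ker := h.symm ▸ Subgroup.mem_top g
    exact this

theorem support_card_add (hS : Setup G) [Fintype (Sylow 5 G)] (g : G) :
    (MulAction.toPermHom G (Sylow 5 G) g).support.card + Nat.card (fixedBy (Sylow 5 G) g) = 21 := by
  have h1 : (MulAction.toPermHom G (Sylow 5 G) g).supportᶜ = (fixedBy (Sylow 5 G) g).toFinset := by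
    ext Q
    simp only [Finset.mem_compl, Equiv.Perm.mem_support, MulAction.toPermHom_apply, toPerm_apply,
      not_not, Set.mem_toFinset, mem_fixedBy]
  rw [Nat.card_eq_fintype_card, ← Set.toFinset_card, ← h1, Finset.card_add_card_compl,
    ← Nat.card_eq_fintype_card, hS.card_sylow]

/-- An involution fixes a number of points congruent to 1 modulo 4. -/
theorem involution_fixed (hS : Setup G) {g : G} (hg : g ^ 2 = 1) :
    Nat.card (fixedBy (Sylow 5 G) g) % 4 = 1 := by
  haveI := Fintype.ofFinite (Sylow 5 G)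
  set σ := MulAction.toPermHom G (Sylow 5 G) g with hσ
  have hσ2 : σ ^ 2 = 1 := by rw [hσ, ← map_pow, hg, map_one]
  have hrep : σ.cycleType = Multiset.replicate σ.cycleType.card 2 := by
    refine Multiset.eq_replicate.mpr ⟨rfl, fun n hn => ?_⟩
    have h1 := Equiv.Perm.two_le_of_mem_cycleType hn
    have h2 := Nat.le_of_dvd two_pos
      ((Equiv.Perm.dvd_of_mem_cycleType hn).trans (orderOf_dvd_of_pow_eq_one hσ2))
    omega
  have hs : Equiv.Perm.sign σ = 1 := sign_eq_one hS g
  rw [Equiv.Perm.sign_of_cycleType, hrep, Multiset.sum_replicate, Multiset.card_replicate,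
    smul_eq_mul] at hs
  have hsum := σ.sum_cycleType
  rw [hrep, Multiset.sum_replicate, smul_eq_mul] at hsum
  have heven : Even σ.cycleType.card := by
    by_contra hodd
    rw [Nat.not_even_iff_odd] at hodd
    rw [show σ.cycleType.card * 2 + σ.cycleType.card = 3 * σ.cycleType.card by omega, pow_mul,
      show ((-1 : ℤˣ) ^ 3) = -1 by decide, hodd.neg_one_pow] at hs
    exact absurd hs (by decide)
  obtain ⟨k, hk⟩ := heven
  have := support_card_add hS g
  rw [← hσ] at this
  omega

/-- No element of order dividing four has square with exactly one fixed point. -/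
theorem four_fixed (hS : Setup G) {g : G} (hg : g ^ 4 = 1) :
    Nat.card (fixedBy (Sylow 5 G) (g ^ 2)) ≠ 1 := by
  intro h1
  haveI := Fintype.ofFinite (Sylow 5 G)
  set σ := MulAction.toPermHom G (Sylow 5 G) g with hσ
  have hσ4 : σ ^ 4 = 1 := by rw [hσ, ← map_pow, hg, map_one]
  have hsupp2 : (σ ^ 2).support.card = 20 := by
    have := support_card_add hS (g ^ 2)
    rw [h1, map_pow, ← hσ] at this
    omega
  have hsupp : σ.support.card = 20 := by
    refine le_antisymm ?_ (hsupp2 ▸ Finset.card_le_card (Equiv.Perm.support_pow_le σ 2))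
    have := support_card_add hS g
    have hpos : 0 < Nat.card (fixedBy (Sylow 5 G) g) := by
      obtain ⟨a, ha⟩ := Set.ncard_eq_one.mp ((Nat.card_coe_set_eq _).symm.trans h1)
      have haa : g ^ 2 • a = a :=
        (ha.symm ▸ Set.mem_singleton a : a ∈ fixedBy (Sylow 5 G) (g ^ 2))
      have hga : g • a ∈ fixedBy (Sylow 5 G) (g ^ 2) := by
        show g ^ 2 • g • a = g • a
        rw [← mul_smul, ← pow_succ, pow_succ', mul_smul, haa]
      rw [ha, Set.mem_singleton_iff] at hga
      exact Nat.card_pos_iff.mpr ⟨⟨⟨a, hga⟩⟩, inferInstance⟩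
    rw [← hσ] at this
    omega
  have heq : (σ ^ 2).support = σ.support :=
    Finset.eq_of_subset_of_card_le (Equiv.Perm.support_pow_le σ 2) (by omega)
  have hrep : σ.cycleType = Multiset.replicate σ.cycleType.card 4 := by
    refine Multiset.eq_replicate.mpr ⟨rfl, fun n hn => ?_⟩
    have h2 := Equiv.Perm.two_le_of_mem_cycleType hn
    have hd := (Equiv.Perm.dvd_of_mem_cycleType hn).trans (orderOf_dvd_of_pow_eq_one hσ4)
    have hle := Nat.le_of_dvd (by norm_num) hd
    rw [Equiv.Perm.cycleType_def, Multiset.mem_map] at hn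
    obtain ⟨c, hc, rfl⟩ := hn
    obtain ⟨hcyc, hceq⟩ := Equiv.Perm.mem_cycleFactorsFinset_iff.mp hc
    by_contra h4
    have hc2 : (Finset.card ∘ Equiv.Perm.support) c = 2 := by
      simp only [Function.comp_apply] at h2 hd hle h4 ⊢
      interval_cases h : c.support.card <;> simp_all
    obtain ⟨x, hx⟩ : c.support.Nonempty := Finset.card_pos.mp (by
      simp only [Function.comp_apply] at hc2; omega)
    have hcpow : c ^ 2 = 1 := by
      rw [← hc2, Function.comp_apply, ← hcyc.orderOf]
      exact pow_orderOf_eq_one c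
    have hxσ : x ∈ σ.support := by
      rw [Equiv.Perm.mem_support, ← hceq x hx]; exact Equiv.Perm.mem_support.mp hx
    rw [← heq, Equiv.Perm.mem_support, pow_two, Equiv.Perm.mul_apply, ← hceq x hx,
      ← hceq (c x) (Equiv.Perm.apply_mem_support.mpr hx), ← Equiv.Perm.mul_apply, ← pow_two,
      hcpow] at hxσ
    exact hxσ rfl
  have hs : Equiv.Perm.sign σ = 1 := sign_eq_one hS g
  rw [Equiv.Perm.sign_of_cycleType, hrep, Multiset.sum_replicate, Multiset.card_replicate,
    smul_eq_mul] at hs
  have hsum := σ.sum_cycleType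
  rw [hrep, Multiset.sum_replicate, smul_eq_mul, hsupp] at hsum
  rw [show σ.cycleType.card = 5 by omega] at hs
  exact absurd hs (by decide)

end

/-- A permutation of four letters moving every letter and squaring to one, or the identity. -/
def InKlein (g : Equiv.Perm (Fin 4)) : Prop := g * g = 1 ∧ (g = 1 ∨ ∀ i, g i ≠ i)

/-- A transposition-like permutation: squares to one and has a fixed letter. -/
def IsFlip (g : Equiv.Perm (Fin 4)) : Prop := g * g = 1 ∧ g ≠ 1 ∧ ∃ i, g i = i

theorem perm4_two_element : ∀ g : Equiv.Perm (Fin 4), g ^ 16 = 1 →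
    InKlein g ∨ IsFlip g ∨ (g ^ 4 = 1 ∧ ∀ i, (g * g) i ≠ i) := by
  unfold InKlein IsFlip; decide +kernel

theorem perm4_four_cycle : ∀ g : Equiv.Perm (Fin 4), g * g ≠ 1 → g ^ 16 = 1 →
    ∀ i, (g * g) i ≠ i := by decide +kernel

set_option synthInstance.maxSize 1024 in
theorem perm4_flip_product : ∀ t a b : Equiv.Perm (Fin 4), IsFlip t → InKlein a → InKlein b →
    a ≠ 1 → b ≠ 1 → a ≠ b → (a * t) * (a * t) ≠ 1 ∨ (b * t) * (b * t) ≠ 1 := by
  unfold InKlein IsFlip; decide +kernel

theorem perm4_klein_comm : ∀ a b : Equiv.Perm (Fin 4), InKlein a → InKlein b → a * b = b * a := by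
  unfold InKlein; decide +kernel

set_option synthInstance.maxSize 1024 in
theorem perm4_conj_klein : ∀ e a : Equiv.Perm (Fin 4), e ^ 3 = 1 → e ≠ 1 → InKlein a → a ≠ 1 →
    InKlein (e * a * e⁻¹) ∧ e * a * e⁻¹ ≠ a ∧ e * a * e⁻¹ ≠ 1 := by
  unfold InKlein; decide +kernel

theorem perm4_three_not_klein : ∀ e : Equiv.Perm (Fin 4), e ^ 3 = 1 → e ^ 4 = 1 → e = 1 := by
  decide +kernel

end CfsgLib.Sylow21
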