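/-
Sylow 5-subgroups of order 5 in the reduced group: the possible orders.
-/
import Cfsg.Agent.Sylow21.Parity

set_option autoImplicit false

namespace CfsgLib.Sylow21

open MulAction Subgroup

theorem order_cases_check : ∀ d ≤ 96, ∀ e ≤ 18, ¬ (d % 4 = 0 ∧ 96 % d = 0 ∧ 18 % e = 0 ∧ e ≠ 1 ∧
    (105 * d) % (7 * e) = 0 ∧ (105 * d / (7 * e)) % 7 = 1) ∨ d = 16 ∨ d = 24 ∨ d = 48 := by
  decide +kernel

theorem order_cases_aux (d : ℕ) (hd : d ≤ 96) (e : ℕ) (he : e ≤ 18) (h1 : d ∣ 96) (h2 : e ∣ 18)
    (h3 : e ≠ 1) (h4 : 4 ∣ d) (h5 : 7 * e ∣ 105 * d) (h6 : (105 * d / (7 * e)) % 7 = 1) :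
    d = 16 ∨ d = 24 ∨ d = 48 :=
  (order_cases_check d hd e he).resolve_left (not_not_intro
    ⟨Nat.mod_eq_zero_of_dvd h4, Nat.mod_eq_zero_of_dvd h1, Nat.mod_eq_zero_of_dvd h2, h3,
      Nat.mod_eq_zero_of_dvd h5, h6⟩)

open scoped Classical

variable {G : Type*} [Group G] [Finite G]

local instance factFive1 : Fact (Nat.Prime 5) := ⟨by norm_num⟩

theorem card_sylow_five (hS : Setup G) (P : Sylow 5 G) : Nat.card (P : Subgroup G) = 5 := by
  obtain ⟨k, hk⟩ := IsPGroup.iff_card.mp P.2
  have hle := card_sylow_le hS P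
  have hne := card_ne_25 hS P
  obtain ⟨Q, hQ⟩ := exists_ne hS P
  have h5 : 5 ∣ Nat.card (P : Subgroup G) := ⟨_, (mul_comm _ _).trans (card_kerAt hS hQ) |>.symm⟩
  rw [hk] at hle hne h5 ⊢
  have : ¬ 3 ≤ k := fun h => by
    have := (Nat.pow_le_pow_right (show 1 ≤ 5 by norm_num) h).trans hle
    norm_num at this
  interval_cases k
  · norm_num at h5
  · rfl
  · norm_num at hne

/-- An orbit as an element of the family. -/
noncomputable def orbitElt [Fintype (Sylow 5 G)] {P : Sylow 5 G} (Q : Sylow 5 G) (hQ : Q ≠ P) :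
    (orbitFam P : Finset (Finset (Sylow 5 G))) :=
  ⟨(orbit (P : Subgroup G) Q).toFinset,
    Finset.mem_image.mpr ⟨Q, Finset.mem_erase.mpr ⟨hQ, Finset.mem_univ _⟩, rfl⟩⟩

/-- The normaliser of `P` permutes the four orbits. -/
noncomputable def orbitPerm [Fintype (Sylow 5 G)] (P : Sylow 5 G) :
    normalizer ((P : Subgroup G) : Set G) →*
      Equiv.Perm (orbitFam P : Finset (Finset (Sylow 5 G))) :=
  have key : ∀ (g : normalizer ((P : Subgroup G) : Set G)),
      ∀ O ∈ orbitFam P, O.image (fun R => (g : G) • R) ∈ orbitFam P := fun g O hO => by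
    obtain ⟨Q, hQ, rfl⟩ := Finset.mem_image.mp hO
    refine Finset.mem_image.mpr ⟨(g : G) • Q, Finset.mem_erase.mpr ⟨fun h => ?_, Finset.mem_univ _⟩, ?_⟩
    · exact (Finset.mem_erase.mp hQ).1
        (MulAction.injective (g : G) (h.trans (smul_eq_iff.mpr g.2).symm))
    · rw [← Finset.coe_inj, Finset.coe_image, Set.coe_toFinset, Set.coe_toFinset]
      exact (smul_orbit g.2).symm
  { toFun := fun g =>
      { toFun := fun O => ⟨O.1.image (fun R => (g : G) • R), key g O.1 O.2⟩
        invFun := fun O => ⟨O.1.image (fun R => ((g⁻¹ : normalizer ((P : Subgroup G) : Set G)) : G) • R),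
          key g⁻¹ O.1 O.2⟩
        left_inv := fun O => Subtype.ext (by simp [Finset.image_image, Function.comp_def])
        right_inv := fun O => Subtype.ext (by simp [Finset.image_image, Function.comp_def]) }
    map_one' := Equiv.ext fun O => Subtype.ext (by simp)
    map_mul' := fun g h => Equiv.ext fun O => Subtype.ext (by
      show O.1.image _ = (O.1.image _).image _
      rw [Finset.image_image]
      refine Finset.image_congr fun R _ => ?_
      exact mul_smul (g : G) (h : G) R) }

theorem orbitPerm_eq_iff [Fintype (Sylow 5 G)] {P Q : Sylow 5 G} (hQ : Q ≠ P)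
    (g : normalizer ((P : Subgroup G) : Set G)) :
    orbitPerm P g (orbitElt Q hQ) = orbitElt Q hQ ↔ (g : G) • Q ∈ orbit (P : Subgroup G) Q := by
  rw [Subtype.ext_iff]
  show (orbit (P : Subgroup G) Q).toFinset.image (fun R => (g : G) • R) =
    (orbit (P : Subgroup G) Q).toFinset ↔ _
  rw [← Finset.coe_inj, Finset.coe_image, Set.coe_toFinset, smul_orbit g.2, orbit_eq_iff]

/-- The action of the normaliser of `P` on four letters. -/
noncomputable def letterHom [Fintype (Sylow 5 G)] (hS : Setup G) (P : Sylow 5 G) :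
    normalizer ((P : Subgroup G) : Set G) →* Equiv.Perm (Fin 4) :=
  ((Fintype.equivFinOfCardEq (by rw [Fintype.card_coe, card_orbitFam hS P])).permCongrHom
    : Equiv.Perm (orbitFam P : Finset (Finset (Sylow 5 G))) ≃* Equiv.Perm (Fin 4)).toMonoidHom.comp
    (orbitPerm P)

theorem fix_letter [Fintype (Sylow 5 G)] (hS : Setup G) {P Q : Sylow 5 G} (hQ : Q ≠ P)
    (g : normalizer ((P : Subgroup G) : Set G)) (h : (g : G) • Q ∈ orbit (P : Subgroup G) Q) :
    ∃ i, letterHom hS P g i = i := by
  refine ⟨(Fintype.equivFinOfCardEq (by rw [Fintype.card_coe, card_orbitFam hS P]))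
    (orbitElt Q hQ), ?_⟩
  simp only [letterHom, MonoidHom.comp_apply, MulEquiv.coe_toMonoidHom, Equiv.permCongrHom_coe,
    Equiv.permCongr_apply, Equiv.symm_apply_apply]
  rw [(orbitPerm_eq_iff hQ g).mpr h]

theorem letterHom_eq_one [Fintype (Sylow 5 G)] (hS : Setup G) {P Q : Sylow 5 G} (hQ : Q ≠ P)
    {g : normalizer ((P : Subgroup G) : Set G)} (h : letterHom hS P g = 1) :
    (g : G) • Q ∈ orbit (P : Subgroup G) Q := by
  simp only [letterHom, MonoidHom.comp_apply, MulEquiv.coe_toMonoidHom,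
    MulEquiv.map_eq_one_iff] at h
  refine (orbitPerm_eq_iff hQ g).mp ?_
  rw [h]; rfl

theorem exists_fixed_of_letter [Fintype (Sylow 5 G)] (hS : Setup G) {P : Sylow 5 G}
    (g : normalizer ((P : Subgroup G) : Set G)) {i : Fin 4} (h : letterHom hS P g i = i) :
    ∃ Q, ∃ _ : Q ≠ P, (g : G) • Q ∈ orbit (P : Subgroup G) Q := by
  set e := Fintype.equivFinOfCardEq (α := (orbitFam P : Finset (Finset (Sylow 5 G))))
    (show _ = 4 by rw [Fintype.card_coe, card_orbitFam hS P]) with he
  obtain ⟨Q, hQ, hQO⟩ := Finset.mem_image.mp (e.symm i).2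
  have hQP := (Finset.mem_erase.mp hQ).1
  refine ⟨Q, hQP, (orbitPerm_eq_iff hQP g).mp ?_⟩
  have heq : orbitElt Q hQP = e.symm i := Subtype.ext hQO
  simp only [letterHom, MonoidHom.comp_apply, MulEquiv.coe_toMonoidHom, Equiv.permCongrHom_coe,
    Equiv.permCongr_apply, ← he] at h
  rw [heq]
  exact e.injective (h.trans (e.apply_symm_apply i).symm)

/-- An element moving every letter fixes only `P`. -/
theorem fixed_one_of_free [Fintype (Sylow 5 G)] (hS : Setup G) {P : Sylow 5 G}
    {g : normalizer ((P : Subgroup G) : Set G)} (h : ∀ i, letterHom hS P g i ≠ i) :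
    Nat.card (fixedBy (Sylow 5 G) (g : G)) = 1 := by
  rw [Nat.card_coe_set_eq, Set.ncard_eq_one]
  refine ⟨P, Set.eq_singleton_iff_unique_mem.mpr ⟨smul_eq_iff.mpr g.2, fun Q hQ => ?_⟩⟩
  by_contra hne
  obtain ⟨i, hi⟩ := fix_letter hS hne g (by rw [mem_fixedBy.mp hQ]; exact mem_orbit_self Q)
  exact h i hi

/-- An element centralising `P` that keeps an orbit has fifth power fixing it pointwise. -/
theorem pow_five_fix (hS : Setup G) {P Q : Sylow 5 G} {c : G}
    (hc : c ∈ centralizer ((P : Subgroup G) : Set G)) (h : c • Q ∈ orbit (P : Subgroup G) Q) :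
    c ^ 5 • Q = Q := by
  obtain ⟨⟨x, hx⟩, hxQ⟩ := h
  have key : ∀ n : ℕ, c ^ n • Q = x ^ n • Q := by
    intro n
    induction n with
    | zero => simp
    | succ n ih =>
      have hxn : x ^ n * c = c * x ^ n :=
        mem_centralizer_iff.mp hc _ (pow_mem hx n)
      rw [pow_succ', mul_smul, ih, ← mul_smul, ← hxn, mul_smul, ← hxQ, pow_succ, mul_smul]
      rfl
  rw [key 5, pow_five hS hx, one_smul]

theorem pow_five_eq_one (hS : Setup G) [Fintype (Sylow 5 G)] {P : Sylow 5 G}
    {c : normalizer ((P : Subgroup G) : Set G)} (hc : (c : G) ∈ centralizer ((P : Subgroup G) : Set G))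
    (h : letterHom hS P c = 1) : (c : G) ^ 5 = 1 := by
  refine hS.faithful _ fun Q => ?_
  by_cases hQ : Q = P
  · subst hQ; exact smul_eq_iff.mpr (pow_mem c.2 5)
  · exact pow_five_fix hS hc (letterHom_eq_one hS hQ h)

theorem normalizer_dvd (hS : Setup G) (P : Sylow 5 G) :
    Nat.card (normalizer ((P : Subgroup G) : Set G)) ∣
        Nat.card (centralizer ((P : Subgroup G) : Set G)) * 4 ∧
      Nat.card (centralizer ((P : Subgroup G) : Set G)) ∣ 120 := by
  haveI := Fintype.ofFinite (Sylow 5 G)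
  refine ⟨PermSimple.normalizer_card_dvd (P : Subgroup G) (card_sylow_five hS P), ?_⟩
  set C := centralizer ((P : Subgroup G) : Set G) with hC
  have hle : C ≤ normalizer ((P : Subgroup G) : Set G) := centralizer_le_normalizer _
  let f : C →* Equiv.Perm (Fin 4) := (letterHom hS P).comp (Subgroup.inclusion hle)
  rw [← Subgroup.card_mul_index f.ker, Subgroup.index_ker, show 120 = 5 * 24 from rfl]
  refine Nat.mul_dvd_mul ?_ ?_
  · have hsub : f.ker.map C.subtype ≤ (P : Subgroup G) := by
      rintro _ ⟨c, hc, rfl⟩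
      exact mem_of_pow_eq_one (n := 1) (by
        rw [pow_one]; exact pow_five_eq_one hS (c := Subgroup.inclusion hle c) c.2 hc)
        (smul_eq_iff.mpr (hle c.2))
    rw [Nat.card_congr (f.ker.equivMapOfInjective _ C.subtype_injective).toEquiv,
      ← card_sylow_five hS P]
    exact Subgroup.card_dvd_of_le hsub
  · have h24 : Nat.card (Equiv.Perm (Fin 4)) = 24 := by
      rw [Nat.card_eq_fintype_card, Fintype.card_perm, Fintype.card_fin]; rfl
    exact h24 ▸ Subgroup.card_subgroup_dvd_card _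

/-- Burnside's transfer criterion rules out self-centralising Sylow normalisers. -/
theorem not_le_centralizer (hS : Setup G) {p : ℕ} [Fact p.Prime] (Q : Sylow p G)
    (h1 : 1 < Nat.card (Q : Subgroup G)) (h2 : Nat.card (Q : Subgroup G) < Nat.card G) :
    ¬ normalizer ((Q : Subgroup G) : Set G) ≤ centralizer ((Q : Subgroup G) : Set G) := by
  intro hle
  haveI := isSimple hS
  have hcompl := MonoidHom.ker_transferSylow_isComplement' Q hle
  have hmul := hcompl.card_mul_card
  rcases IsSimpleGroup.eq_bot_or_eq_top_of_normal (MonoidHom.transferSylow Q hle).ker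
    inferInstance with h | h <;> rw [h] at hmul
  · rw [Subgroup.card_bot, one_mul] at hmul; omega
  · rw [Subgroup.card_top] at hmul
    have := Nat.card_pos (α := G)
    nlinarith

theorem centralizer_seven_dvd (hS : Setup G) (R : Sylow 7 G) (hG : Nat.card G ∣ 10080) :
    Nat.card (centralizer ((R : Subgroup G) : Set G)) ∣ 63 := by
  set C := centralizer ((R : Subgroup G) : Set G) with hC
  have hd : Nat.card C ∣ 160 * 63 := (Subgroup.card_subgroup_dvd_card C).trans hG
  refine Nat.Coprime.dvd_of_dvd_mul_left ?_ hd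
  have h2 : ¬ 2 ∣ Nat.card C := by
    intro h
    obtain ⟨c, hc⟩ := exists_prime_orderOf_dvd_card' (hp := ⟨Nat.prime_two⟩) 2 h
    rw [← Subgroup.orderOf_coe] at hc
    have hc2 : (c : G) ^ 2 = 1 := by rw [← hc]; exact pow_orderOf_eq_one _
    have hc1 : (c : G) ≠ 1 := fun h => by rw [h, orderOf_one] at hc; norm_num at hc
    have h4 := involution_fixed hS hc2
    haveI : Fact (Nat.Prime 7) := ⟨by norm_num⟩
    let S : SubMulAction (R : Subgroup G) (Sylow 5 G) :=
      { carrier := fixedBy (Sylow 5 G) (c : G)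
        smul_mem' := fun r Q (hQ : (c : G) • Q = Q) => by
          show (c : G) • (r : G) • Q = (r : G) • Q
          rw [← mul_smul, ← mem_centralizer_iff.mp c.2 _ r.2, mul_smul, hQ] }
    have hmod7 := R.2.card_modEq_card_fixedPoints S
    have hempty : Nat.card (fixedPoints (R : Subgroup G) S) = 0 := by
      rw [Nat.card_eq_zero]; left
      refine ⟨fun ⟨Q, hQ⟩ => ?_⟩
      obtain ⟨r, hr⟩ := exists_prime_orderOf_dvd_card' (G := (R : Subgroup G)) 7
        (by rw [card_sylow_seven hS R])
      rw [← Subgroup.orderOf_coe] at hr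
      exact seven_free hS hr (Q : Sylow 5 G) (congrArg Subtype.val (hQ r))
    have hS' : Nat.card S = (fixedBy (Sylow 5 G) (c : G)).ncard := Nat.card_coe_set_eq _
    rw [hempty, hS', Nat.ModEq] at hmod7
    rw [Nat.card_coe_set_eq] at h4
    have hlt : (fixedBy (Sylow 5 G) (c : G)).ncard < 21 := by
      rw [← hS.card_sylow, ← Set.ncard_univ]
      exact Set.ncard_lt_ncard (Set.ssubset_univ_iff.mpr fun h =>
        hc1 (hS.faithful _ fun Q => (Set.eq_univ_iff_forall.mp h Q : Q ∈ fixedBy _ (c : G))))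
    omega
  have h5 : ¬ 5 ∣ Nat.card C := fun h => five_not_dvd_normalizer_seven hS R
    (h.trans (Subgroup.card_dvd_of_le (centralizer_le_normalizer _)))
  have h160 : (160 : ℕ) = 2 ^ 5 * 5 := by norm_num
  rw [h160, Nat.coprime_mul_iff_right]
  exact ⟨((Nat.prime_two.coprime_iff_not_dvd).mpr h2).symm.pow_right 5,
    (((show Nat.Prime 5 by norm_num).coprime_iff_not_dvd).mpr h5).symm⟩

/-- The three possible orders. -/
theorem order_cases (hS : Setup G) (P : Sylow 5 G) :
    ∃ d, Nat.card (normalizer ((P : Subgroup G) : Set G)) = 5 * d ∧ (d = 16 ∨ d = 24 ∨ d = 48) := by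
  obtain ⟨hNC, hC⟩ := normalizer_dvd hS P
  set N := normalizer ((P : Subgroup G) : Set G) with hN
  set C := centralizer ((P : Subgroup G) : Set G) with hCdef
  have h5N : 5 ∣ Nat.card N := card_sylow_five hS P ▸ Subgroup.card_dvd_of_le le_normalizer
  obtain ⟨d, hd⟩ := h5N
  refine ⟨d, hd, ?_⟩
  have hG : Nat.card G = 105 * d := by
    have := card_sylow_mul hS P
    rw [← hN, hd] at this; omega
  have hd96 : d ∣ 96 := by
    have h := hNC.trans (Nat.mul_dvd_mul hC dvd_rfl)
    rw [hd, show 120 * 4 = 5 * 96 from rfl] at h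
    exact (Nat.mul_dvd_mul_iff_left (by norm_num)).mp h
  have hG10080 : Nat.card G ∣ 10080 := by
    rw [hG, show 10080 = 105 * 96 from rfl]; exact Nat.mul_dvd_mul_left _ hd96
  -- `d` is even
  have heven : 2 ∣ d := by
    by_contra hodd
    refine not_le_centralizer hS P (by rw [card_sylow_five hS P]; norm_num)
      (by rw [card_sylow_five hS P, hG]
          have := Nat.card_pos (α := N)
          omega) ?_
    have hdvd : Nat.card N ∣ Nat.card C := by
      refine Nat.Coprime.dvd_of_dvd_mul_right ?_ hNC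
      rw [hd, show (4 : ℕ) = 2 ^ 2 from rfl]
      refine (Nat.Coprime.pow_right 2 ((Nat.prime_two.coprime_iff_not_dvd).mpr ?_).symm)
      intro h
      rcases (Nat.Prime.dvd_mul Nat.prime_two).mp h with h | h
      · norm_num at h
      · exact hodd h
    exact (eq_of_le_of_card_ge (centralizer_le_normalizer _)
      (Nat.le_of_dvd Nat.card_pos hdvd)).ge
  have hfour : 4 ∣ d := by
    by_contra h4
    haveI : Fact (Nat.Prime 2) := ⟨Nat.prime_two⟩
    obtain ⟨T⟩ : Nonempty (Sylow 2 G) := inferInstance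
    have hT : Nat.card (T : Subgroup G) = 2 := by
      obtain ⟨d', rfl⟩ := heven
      rw [T.card_eq_multiplicity, hG, show 105 * (2 * d') = 2 * (105 * d') by ring,
        Nat.factorization_mul (by norm_num) (by
          have := Nat.card_pos (α := N); rw [hd] at this; omega), Finsupp.add_apply,
        Nat.prime_two.factorization_self, Nat.factorization_eq_zero_of_not_dvd (by omega)]
      rfl
    haveI : IsCyclic (T : Subgroup G) := isCyclic_of_prime_card hT
    refine not_le_centralizer hS T (by rw [hT]; norm_num) (by rw [hT, hG]; omega) ?_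
    have hle : centralizer ((T : Subgroup G) : Set G) ≤ normalizer ((T : Subgroup G) : Set G) :=
      centralizer_le_normalizer _
    have hdvd := PermSimple.normalizer_card_dvd (T : Subgroup G) hT
    rw [show 2 - 1 = 1 from rfl, mul_one] at hdvd
    exact (eq_of_le_of_card_ge hle (Nat.le_of_dvd Nat.card_pos hdvd)).ge
  -- the Sylow 7-subgroup
  haveI : Fact (Nat.Prime 7) := ⟨by norm_num⟩
  obtain ⟨R⟩ : Nonempty (Sylow 7 G) := inferInstance
  set N7 := normalizer ((R : Subgroup G) : Set G) with hN7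
  obtain ⟨e, he⟩ : 7 ∣ Nat.card N7 := card_sylow_seven hS R ▸ Subgroup.card_dvd_of_le le_normalizer
  have hN7dvd : Nat.card N7 ∣ Nat.card G := Subgroup.card_subgroup_dvd_card _
  have he18 : e ∣ 18 := by
    have h1 : Nat.card N7 ∣ 63 * 6 := (PermSimple.normalizer_card_dvd (R : Subgroup G)
      (card_sylow_seven hS R)).trans (Nat.mul_dvd_mul (centralizer_seven_dvd hS R hG10080) dvd_rfl)
    have h2 : Nat.card N7 ∣ 10080 := hN7dvd.trans hG10080
    have h3 := Nat.dvd_gcd h1 h2
    rw [he, show Nat.gcd (63 * 6) 10080 = 7 * 18 by decide +kernel] at h3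
    exact (Nat.mul_dvd_mul_iff_left (by norm_num)).mp h3
  have he1 : e ≠ 1 := by
    rintro rfl
    rw [mul_one] at he
    refine not_le_centralizer hS R (by rw [card_sylow_seven hS R]; norm_num)
      (by rw [card_sylow_seven hS R, hG]; have := Nat.card_pos (α := N); omega) ?_
    have heq : (R : Subgroup G) = N7 :=
      eq_of_le_of_card_ge le_normalizer (by rw [he, card_sylow_seven hS R])
    haveI : IsCyclic (R : Subgroup G) := isCyclic_of_prime_card (card_sylow_seven hS R)
    rw [← hN7, ← heq]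
    intro y hy
    rw [mem_centralizer_iff]
    intro z hz
    exact congrArg Subtype.val (IsCyclic.commutative.1.comm
      (⟨z, hz⟩ : (R : Subgroup G)) ⟨y, hy⟩)
  have hmod : (105 * d / (7 * e)) % 7 = 1 := by
    have h1 : Nat.card N7 * N7.index = Nat.card G := Subgroup.card_mul_index _
    have h2 : Nat.card (Sylow 7 G) = N7.index := R.card_eq_index_normalizer
    have h3 := card_sylow_modEq_one (p := 7) (G := G)
    rw [h2, Nat.ModEq] at h3
    rw [← hG, ← h1, he, Nat.mul_div_cancel_left _ (he ▸ Nat.card_pos)]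
    exact h3
  exact order_cases_aux d (Nat.le_of_dvd (by norm_num) hd96) e (Nat.le_of_dvd (by norm_num) he18)
    hd96 he18 he1 hfour (by rw [← hG, ← he]; exact hN7dvd) hmod

end CfsgLib.Sylow21
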