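/-
The reduced situation is impossible: a 2-element transfer argument.
-/
import Cfsg.Agent.Sylow21.RankOne

set_option autoImplicit false

namespace CfsgLib.Sylow21

set_option synthInstance.maxSize 4096 in
theorem perm4_klein_cases : ∀ a b c : Equiv.Perm (Fin 4), InKlein a → InKlein b → a ≠ 1 → b ≠ 1 →
    a ≠ b → InKlein c → c = 1 ∨ c = a ∨ c = b ∨ c = a * b := by
  unfold InKlein; decide +kernel

theorem perm4_klein_card :
    ((Finset.univ : Finset (Equiv.Perm (Fin 4))).filter fun g =>
      g * g = 1 ∧ (g = 1 ∨ ∀ i, g i ≠ i)).card = 4 := by decide +kernel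

theorem perm4_klein_mul : ∀ a b : Equiv.Perm (Fin 4), InKlein a → InKlein b → InKlein (a * b) := by
  unfold InKlein; decide +kernel

/-- The four-group in the symmetric group on four letters. -/
def kleinSub : Subgroup (Equiv.Perm (Fin 4)) where
  carrier := {g | InKlein g}
  one_mem' := ⟨mul_one 1, Or.inl rfl⟩
  mul_mem' := fun {a b} ha hb => perm4_klein_mul a b ha hb
  inv_mem' := fun {a} ha => by
    show InKlein a⁻¹
    rw [inv_eq_of_mul_eq_one_right ha.1]
    exact ha

theorem card_kleinSub : Nat.card kleinSub = 4 := by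
  classical
  show Nat.card {g : Equiv.Perm (Fin 4) // InKlein g} = 4
  rw [Nat.card_eq_fintype_card, Fintype.card_subtype]
  convert perm4_klein_card using 2
  exact Finset.filter_congr fun g _ => Iff.rfl

open MulAction Subgroup
open scoped Classical

variable {G : Type*} [Group G] [Finite G]

local instance factFiveF : Fact (Nat.Prime 5) := ⟨by norm_num⟩

/-- Automorphisms of a group of order five: at most one involution. -/
theorem aut_involution_unique {P : Subgroup G} (hP : Nat.card P = 5) {a b : MulAut P}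
    (ha : a ^ 2 = 1) (hb : b ^ 2 = 1) (ha1 : a ≠ 1) (hb1 : b ≠ 1) : a = b := by
  haveI : IsCyclic P := isCyclic_of_prime_card hP
  haveI : Fact (Nat.card P).Prime := ⟨hP ▸ by norm_num⟩
  have key : ∀ u : (ZMod (Nat.card P))ˣ, u ^ 2 = 1 → u ≠ 1 → u = -1 := by
    intro u hu hu1
    have h : (u : ZMod (Nat.card P)) ^ 2 = 1 := by rw [← Units.val_pow_eq_pow_val, hu, Units.val_one]
    rcases sq_eq_one_iff.mp h with h | h
    · exact absurd (Units.ext h) hu1
    · exact Units.ext (by rw [h, Units.val_neg, Units.val_one])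
  refine (IsCyclic.mulAutMulEquiv P).injective ?_
  exact (key (IsCyclic.mulAutMulEquiv P a) (by rw [← map_pow, ha, map_one]) (by simpa using ha1)).trans
    (key (IsCyclic.mulAutMulEquiv P b) (by rw [← map_pow, hb, map_one]) (by simpa using hb1)).symm

theorem impossible (hS : Setup G) : False := by
  haveI := Fintype.ofFinite (Sylow 5 G)
  haveI := isSimple hS
  obtain ⟨P⟩ : Nonempty (Sylow 5 G) := inferInstance
  obtain ⟨d, hd, hdc⟩ := order_cases hS P
  set N := normalizer ((P : Subgroup G) : Set G) with hN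
  have hP5 := card_sylow_five hS P
  -- a Sylow 2-subgroup inside the normaliser
  haveI : Fact (Nat.Prime 2) := ⟨Nat.prime_two⟩
  obtain ⟨S⟩ : Nonempty (Sylow 2 N) := inferInstance
  have hScard : Nat.card (S : Subgroup N) = if d = 24 then 8 else 16 := by
    rw [S.card_eq_multiplicity, hd]
    rcases hdc with rfl | rfl | rfl
    · rw [if_neg (by norm_num), show 5 * 16 = 2 ^ 4 * 5 from rfl,
        Nat.factorization_mul (by norm_num) (by norm_num), Finsupp.add_apply,
        Nat.prime_two.factorization_pow, Finsupp.single_eq_same,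
        Nat.factorization_eq_zero_of_not_dvd (by norm_num)]
      rfl
    · rw [if_pos rfl, show 5 * 24 = 2 ^ 3 * 15 from rfl,
        Nat.factorization_mul (by norm_num) (by norm_num), Finsupp.add_apply,
        Nat.prime_two.factorization_pow, Finsupp.single_eq_same,
        Nat.factorization_eq_zero_of_not_dvd (by norm_num)]
      rfl
    · rw [if_neg (by norm_num), show 5 * 48 = 2 ^ 4 * 15 from rfl,
        Nat.factorization_mul (by norm_num) (by norm_num), Finsupp.add_apply,
        Nat.prime_two.factorization_pow, Finsupp.single_eq_same,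
        Nat.factorization_eq_zero_of_not_dvd (by norm_num)]
      rfl
  have hSle : Nat.card (S : Subgroup N) ∣ 16 := by rw [hScard]; split <;> norm_num
  have h16 : ∀ g : N, g ∈ (S : Subgroup N) → g ^ 16 = 1 := fun g hg => by
    have h : (⟨g, hg⟩ : (S : Subgroup N)) ^ 16 = 1 :=
      orderOf_dvd_iff_pow_eq_one.mp ((_root_.orderOf_dvd_natCard _).trans hSle)
    exact congrArg Subtype.val h
  set φ := (P : Subgroup G).normalizerMonoidHom with hφdef
  set π := letterHom hS P with hπ
  have hcent : ∀ g : N, φ g = 1 ↔ (g : G) ∈ centralizer ((P : Subgroup G) : Set G) := fun g => by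
    rw [hφdef, ← MonoidHom.mem_ker, normalizerMonoidHom_ker, mem_subgroupOf]
  haveI : IsCyclic (P : Subgroup G) := isCyclic_of_prime_card hP5
  have haut4 : Nat.card (MulAut (P : Subgroup G)) = 4 := by
    rw [IsCyclic.card_mulAut, hP5, Nat.totient_prime (by norm_num)]
  have hautcomm : ∀ a b : MulAut (P : Subgroup G), a * b = b * a := fun a b =>
    (IsCyclic.mulAutMulEquiv (P : Subgroup G)).injective (by rw [map_mul, map_mul, mul_comm])
  -- the two maps are jointly injective on `S`
  have hinj : ∀ g : N, g ∈ (S : Subgroup N) → φ g = 1 → π g = 1 → g = 1 := by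
    intro g hg h1 h2
    have h5 : g ^ 5 = 1 := Subtype.ext (pow_five_eq_one hS ((hcent g).mp h1) h2)
    have : g ^ Nat.gcd 5 16 = 1 := pow_gcd_eq_one.mpr ⟨h5, h16 g hg⟩
    simpa using this
  -- no four-cycles
  have hsq : ∀ g : N, g ∈ (S : Subgroup N) → π g * π g = 1 := by
    intro g hg
    by_contra hne
    have h16' : π g ^ 16 = 1 := by rw [← map_pow, h16 g hg, map_one]
    have hfree := perm4_four_cycle (π g) hne h16'
    have hπ4 : π g ^ 4 = 1 := by
      rcases perm4_two_element (π g) h16' with h | h | h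
      · exact absurd h.1 hne
      · exact absurd h.1 hne
      · exact h.1
    have hφ4 : φ g ^ 4 = 1 :=
      orderOf_dvd_iff_pow_eq_one.mp (haut4 ▸ _root_.orderOf_dvd_natCard (φ g))
    have h4 : g ^ 4 = 1 := hinj _ (pow_mem hg 4) (by rw [map_pow, hφ4]) (by rw [map_pow, hπ4])
    refine four_fixed hS (g := (g : G)) (congrArg Subtype.val h4) ?_
    have := fixed_one_of_free hS (P := P) (g := g ^ 2) (fun i => by
      rw [pow_two, map_mul]; exact hfree i)
    exact this
  have hcases : ∀ g : N, g ∈ (S : Subgroup N) → InKlein (π g) ∨ IsFlip (π g) := by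
    intro g hg
    by_cases h : ∀ i, π g i ≠ i
    · exact Or.inl ⟨hsq g hg, Or.inr h⟩
    · by_cases h1 : π g = 1
      · exact Or.inl ⟨hsq g hg, Or.inl h1⟩
      · push_neg at h
        exact Or.inr ⟨hsq g hg, h1, h⟩
  -- centralising elements act as the four-group
  have hA : ∀ g : N, g ∈ (S : Subgroup N) → φ g = 1 → InKlein (π g) := by
    intro g hg h1
    rcases hcases g hg with h | ⟨hsq1, hne, i, hi⟩
    · exact h
    exfalso
    have hc := (hcent g).mp h1
    have h2 : g ^ 2 = 1 := hinj _ (pow_mem hg 2) (by rw [map_pow, h1, one_pow])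
      (by rw [map_pow, pow_two, hsq1])
    have hg2 : (g : G) ^ 2 = 1 := congrArg Subtype.val h2
    obtain ⟨Q, hQP, hQ⟩ := exists_fixed_of_letter hS g hi
    have hfixQ : (g : G) • Q = Q := by
      have := pow_five_fix hS hc hQ
      rwa [show (g : G) ^ 5 = g by rw [show (5 : ℕ) = 2 + 2 + 1 from rfl, pow_add, pow_add, hg2,
        one_mul, one_mul, pow_one]] at this
    have hne1 : (g : G) ≠ 1 := fun h => hne (by
      rw [show g = 1 from Subtype.ext h, map_one])
    have h4 := involution_fixed hS hg2
    let T : SubMulAction (P : Subgroup G) (Sylow 5 G) :=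
      { carrier := fixedBy (Sylow 5 G) (g : G)
        smul_mem' := fun r R (hR : (g : G) • R = R) => by
          show (g : G) • (r : G) • R = (r : G) • R
          rw [← mul_smul, ← mem_centralizer_iff.mp hc _ r.2, mul_smul, hR] }
    have hmod := P.2.card_modEq_card_fixedPoints T
    have hone : Nat.card (fixedPoints (P : Subgroup G) T) = 1 := by
      rw [Nat.card_eq_one_iff_unique]
      refine ⟨⟨fun a b => ?_⟩, ⟨⟨⟨P, smul_eq_iff.mpr g.2⟩, fun r =>
        Subtype.ext (smul_eq_iff.mpr (le_normalizer r.2))⟩⟩⟩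
      have ha : P = (a : T) := eq_of_le_normalizer fun r hr => congrArg Subtype.val (a.2 ⟨r, hr⟩)
      have hb : P = (b : T) := eq_of_le_normalizer fun r hr => congrArg Subtype.val (b.2 ⟨r, hr⟩)
      exact Subtype.ext (Subtype.ext (ha.symm.trans hb))
    have hT : Nat.card T = Nat.card (fixedBy (Sylow 5 G) (g : G)) := rfl
    rw [hone, hT, Nat.ModEq] at hmod
    have hgt : 1 < (fixedBy (Sylow 5 G) (g : G)).ncard :=
      (Set.one_lt_ncard (Set.toFinite _)).mpr ⟨P, smul_eq_iff.mpr g.2, Q, hfixQ, hQP.symm⟩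
    have hlt : (fixedBy (Sylow 5 G) (g : G)).ncard < 21 := by
      rw [← hS.card_sylow, ← Set.ncard_univ]
      exact Set.ncard_lt_ncard (Set.ssubset_univ_iff.mpr fun h =>
        hne1 (hS.faithful _ fun R => (Set.eq_univ_iff_forall.mp h R : R ∈ fixedBy _ (g : G))))
    rw [Nat.card_coe_set_eq] at h4 hmod
    omega
  -- the centralising part has order four
  let φS : (S : Subgroup N) →* MulAut (P : Subgroup G) := φ.comp (S : Subgroup N).subtype
  let A := φS.ker
  let πA : A →* kleinSub :=
    ((π.comp (S : Subgroup N).subtype).comp A.subtype).codRestrict kleinSub fun a =>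
      hA (a : (S : Subgroup N)) (a : (S : Subgroup N)).2 a.2
  have hπA : Function.Injective πA := by
    rw [injective_iff_map_eq_one]
    intro a ha
    exact Subtype.ext (Subtype.ext (hinj _ (a : (S : Subgroup N)).2 a.2
      (congrArg Subtype.val ha)))
  have hAle : Nat.card A ≤ 4 := card_kleinSub ▸ Nat.card_le_card_of_injective _ hπA
  have hmulA : Nat.card A * Nat.card φS.range = Nat.card (S : Subgroup N) := by
    rw [← Subgroup.index_ker]; exact Subgroup.card_mul_index _
  have hrange : Nat.card φS.range ∣ 4 := haut4 ▸ Subgroup.card_subgroup_dvd_card _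
  have hA4 : Nat.card A = 4 := by
    have hr4 := Nat.le_of_dvd (by norm_num) hrange
    by_cases h24 : d = 24
    · rw [if_pos h24] at hScard
      rw [hScard] at hmulA
      by_contra hne
      -- otherwise the centralising part has order two
      have hA2 : Nat.card A = 2 := by
        have : Nat.card A ∣ 2 ^ 3 := ⟨_, hmulA.symm⟩
        obtain ⟨k, hk, hk'⟩ := (Nat.dvd_prime_pow Nat.prime_two).mp this
        rw [hk'] at hAle hne hmulA ⊢
        interval_cases k <;> omega
      obtain ⟨⟨a, ha⟩, ha1'⟩ : ∃ a : A, a ≠ 1 := by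
        haveI : Nontrivial A := Finite.one_lt_card_iff_nontrivial.mp (by rw [hA2]; norm_num)
        exact _root_.exists_ne 1
      have haC : ((a : N) : G) ∈ centralizer ((P : Subgroup G) : Set G) := (hcent _).mp ha
      have hπa : π (a : N) ≠ 1 := fun h => ha1' (Subtype.ext (Subtype.ext (hinj _ a.2 ha h)))
      set C := centralizer ((P : Subgroup G) : Set G) with hC
      obtain ⟨hNC, hC120⟩ := normalizer_dvd hS P
      rw [← hN, hd, h24, ← hC] at hNC
      have h30 : 30 ∣ Nat.card C :=
        (Nat.mul_dvd_mul_iff_left (show 0 < 4 by norm_num)).mp (by rw [mul_comm 4 (Nat.card C)]; exact hNC)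
      haveI : Fact (Nat.Prime 3) := ⟨by norm_num⟩
      obtain ⟨e, he⟩ := exists_prime_orderOf_dvd_card' (G := C) 3 (dvd_trans (by norm_num) h30)
      rw [← Subgroup.orderOf_coe] at he
      have hCN : C ≤ N := centralizer_le_normalizer _
      set eN : N := ⟨e, hCN e.2⟩ with heN
      have he3 : π eN ^ 3 = 1 := by
        rw [← map_pow, show eN ^ 3 = 1 from Subtype.ext (by
          show (e : G) ^ 3 = 1
          rw [← he]; exact pow_orderOf_eq_one _), map_one]
      have he1 : π eN ≠ 1 := by
        intro h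
        have h5 := pow_five_eq_one hS (c := eN) e.2 h
        have := orderOf_dvd_of_pow_eq_one h5
        rw [he] at this; norm_num at this
      obtain ⟨hb, hbne, hb1⟩ := perm4_conj_klein _ _ he3 he1 (hA _ a.2 ha) hπa
      let f : C →* Equiv.Perm (Fin 4) := π.comp (Subgroup.inclusion hCN)
      have hfa : π (a : N) ∈ f.range := ⟨⟨((a : N) : G), haC⟩, congrArg π (Subtype.ext rfl)⟩
      have hfe : π eN ∈ f.range := ⟨e, rfl⟩
      have hle : kleinSub ≤ f.range := by
        intro c hc
        rcases perm4_klein_cases _ _ c (hA _ a.2 ha) hb hπa hb1 (Ne.symm hbne) hc with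
          rfl | rfl | rfl | rfl
        · exact one_mem _
        · exact hfa
        · exact mul_mem (mul_mem hfe hfa) (inv_mem hfe)
        · exact mul_mem hfa (mul_mem (mul_mem hfe hfa) (inv_mem hfe))
      have h4C : 4 ∣ Nat.card C :=
        card_kleinSub ▸ (Subgroup.card_dvd_of_le hle).trans (Subgroup.card_range_dvd f)
      have h60 : 60 ∣ Nat.card C := Nat.lcm_dvd h30 h4C
      have hker : φ.ker.index ∣ 2 := by
        have hk : Nat.card φ.ker = Nat.card C := by
          rw [hφdef, normalizerMonoidHom_ker]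
          exact Nat.card_congr (Subgroup.subgroupOfEquivOfLe hCN).toEquiv
        have := Subgroup.card_mul_index φ.ker
        rw [hk, hd, h24] at this
        obtain ⟨k, hk60⟩ := h60
        rw [hk60] at this
        exact ⟨k, by nlinarith⟩
      rw [Subgroup.index_ker] at hker
      have hsub : Nat.card φS.range ≤ 2 := Nat.le_of_dvd two_pos
        ((Subgroup.card_dvd_of_le (show φS.range ≤ φ.range from fun x ⟨y, hy⟩ => ⟨(y : N), hy⟩)).trans hker)
      rw [hA2] at hmulA
      omega
    · rw [if_neg h24] at hScard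
      rw [hScard] at hmulA
      nlinarith
  have hbij : Function.Bijective πA :=
    (Nat.bijective_iff_injective_and_card _).mpr ⟨hπA, by rw [hA4, card_kleinSub]⟩
  -- so every element of `S` acts in the four-group
  have hK : ∀ g : N, g ∈ (S : Subgroup N) → InKlein (π g) := by
    intro g hg
    rcases hcases g hg with h | h
    · exact h
    exfalso
    obtain ⟨v, hv, w, hw, hvw⟩ : ∃ v, InKlein v ∧ ∃ w, InKlein w ∧ v ≠ 1 ∧ w ≠ 1 ∧ v ≠ w := by
      unfold InKlein; decide +kernel
    obtain ⟨x, hx⟩ := hbij.2 ⟨v, hv⟩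
    obtain ⟨y, hy⟩ := hbij.2 ⟨w, hw⟩
    have hxv : π (((x : (S : Subgroup N))) : N) = v := congrArg Subtype.val hx
    have hyw : π (((y : (S : Subgroup N))) : N) = w := congrArg Subtype.val hy
    rcases perm4_flip_product _ v w h hv hw hvw.1 hvw.2.1 hvw.2.2 with h' | h'
    · exact h' (by rw [← hxv, ← map_mul]; exact hsq _ (mul_mem (x : (S : Subgroup N)).2 hg))
    · exact h' (by rw [← hyw, ← map_mul]; exact hsq _ (mul_mem (y : (S : Subgroup N)).2 hg))
  -- `S` is abelian
  have hScomm : ∀ g h : N, g ∈ (S : Subgroup N) → h ∈ (S : Subgroup N) → g * h = h * g := by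
    intro g h hg hh
    have := hinj (g * h * g⁻¹ * h⁻¹)
      (mul_mem (mul_mem (mul_mem hg hh) (inv_mem hg)) (inv_mem hh))
      (by simp only [map_mul, map_inv]; rw [hautcomm (φ g) (φ h)]; group)
      (by simp only [map_mul, map_inv]; rw [perm4_klein_comm _ _ (hK g hg) (hK h hh)]; group)
    rw [mul_inv_eq_one, mul_inv_eq_iff_eq_mul] at this
    exact this
  -- an involution acting trivially on the letters
  let πS : (S : Subgroup N) →* kleinSub :=
    (π.comp (S : Subgroup N).subtype).codRestrict kleinSub fun g => hK (g : N) g.2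
  have hker2 : 2 ∣ Nat.card πS.ker := by
    have hr : Nat.card πS.range ∣ 4 := by
      have h := Subgroup.card_subgroup_dvd_card πS.range
      rwa [card_kleinSub] at h
    have hm : Nat.card πS.ker * Nat.card πS.range = Nat.card (S : Subgroup N) := by
      rw [← Subgroup.index_ker]; exact Subgroup.card_mul_index _
    have h8 : 8 ∣ Nat.card (S : Subgroup N) := by rw [hScard]; split <;> norm_num
    rw [← hm] at h8
    obtain ⟨k, hk⟩ := hr
    have : 2 * 4 ∣ Nat.card πS.ker * 4 :=
      h8.trans (Nat.mul_dvd_mul_left _ ⟨k, hk⟩)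
    exact (Nat.mul_dvd_mul_iff_right (by norm_num)).mp this
  obtain ⟨⟨⟨t, htS⟩, htker⟩, ht2'⟩ := exists_prime_orderOf_dvd_card' (G := πS.ker) 2 hker2
  have ht2 : t ^ 2 = 1 := by
    have h := pow_orderOf_eq_one (⟨⟨t, htS⟩, htker⟩ : πS.ker)
    rw [ht2'] at h
    exact congrArg (fun z : πS.ker => ((z : (S : Subgroup N)) : N)) h
  have ht1 : t ≠ 1 := by
    rintro rfl
    rw [show (⟨⟨(1 : N), htS⟩, htker⟩ : πS.ker) = 1 from rfl, orderOf_one] at ht2'
    norm_num at ht2'
  have htπ : π t = 1 := congrArg Subtype.val htker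
  have htG2 : (t : G) ^ 2 = 1 := congrArg Subtype.val ht2
  have htG1 : (t : G) ≠ 1 := fun h => ht1 (Subtype.ext h)
  have hfixt : 1 < Nat.card (fixedBy (Sylow 5 G) (t : G)) := by
    obtain ⟨Q, hQ⟩ := exists_ne hS P
    have hinv : ∀ R ∈ orbit (P : Subgroup G) Q, (t : G) • R ∈ orbit (P : Subgroup G) Q := by
      intro R hR
      have h := smul_orbit (P := P) (Q := Q) t.2
      rw [orbit_eq_iff.mpr (letterHom_eq_one hS hQ htπ)] at h
      rw [← h]
      exact ⟨R, hR, rfl⟩
    let T : SubMulAction (zpowers (t : G)) (Sylow 5 G) :=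
      { carrier := orbit (P : Subgroup G) Q
        smul_mem' := by
          rintro ⟨z, hz⟩ R hR
          show z • R ∈ orbit (P : Subgroup G) Q
          obtain ⟨i, rfl⟩ := (mem_powers_iff_mem_zpowers (G := G)).mpr hz
          induction i with
          | zero => show (t : G) ^ 0 • R ∈ _; rw [pow_zero, one_smul]; exact hR
          | succ i ih =>
            show (t : G) ^ (i + 1) • R ∈ _
            rw [pow_succ', mul_smul]
            exact hinv _ (ih (npow_mem_zpowers (t : G) i)) }
    have hp : IsPGroup 2 (zpowers (t : G)) := IsPGroup.of_card (n := 1) (by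
      rw [Nat.card_zpowers, orderOf_eq_prime htG2 htG1, pow_one])
    have hmod := hp.card_modEq_card_fixedPoints T
    have hT : Nat.card T = 5 := orbit_card hS hQ
    have hne : Nat.card (fixedPoints (zpowers (t : G)) T) ≠ 0 := by
      intro h0; rw [h0, hT, Nat.ModEq] at hmod; norm_num at hmod
    obtain ⟨⟨⟨R, hR⟩, hRfix⟩⟩ := (Nat.card_pos_iff.mp (Nat.pos_of_ne_zero hne)).1
    rw [Nat.card_coe_set_eq, Set.one_lt_ncard (Set.toFinite _)]
    refine ⟨P, smul_eq_iff.mpr t.2, R,
      congrArg Subtype.val (hRfix ⟨(t : G), mem_zpowers _⟩), ?_⟩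
    rintro rfl
    obtain ⟨g, hg⟩ := hR
    exact hQ (MulAction.injective (g : G) (hg.trans (smul_eq_iff.mpr (le_normalizer g.2)).symm))
  -- fusion: `t` is its only conjugate in `S`
  have huniq : ∀ h : N, h ∈ (S : Subgroup N) → (h : G) ^ 2 = 1 → (h : G) ≠ 1 →
      1 < Nat.card (fixedBy (Sylow 5 G) (h : G)) → h = t := by
    intro h hh hh2 hh1 hf
    have hh2N : h ^ 2 = 1 := Subtype.ext hh2
    have hπh : π h = 1 := by
      rcases (hK h hh).2 with h' | h'
      · exact h'
      · rw [fixed_one_of_free hS h'] at hf; omega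
    have hφh : φ h ≠ 1 := fun h' => hh1 (congrArg Subtype.val (hinj h hh h' hπh))
    have hφt : φ t ≠ 1 := fun h' => ht1 (hinj t htS h' htπ)
    have heq : φ h = φ t := aut_involution_unique hP5 (by rw [← map_pow, hh2N, map_one])
      (by rw [← map_pow, ht2, map_one]) hφh hφt
    have := hinj (h⁻¹ * t) (mul_mem (inv_mem hh) htS)
      (by rw [map_mul, map_inv, heq, inv_mul_cancel])
      (by rw [map_mul, map_inv, hπh, htπ, inv_one, one_mul])
    exact inv_mul_eq_one.mp this
  -- transfer
  set SG : Subgroup G := (S : Subgroup N).map N.subtype with hSG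
  letI : CommGroup SG :=
    { (inferInstance : Group SG) with
      mul_comm := fun a b => by
        obtain ⟨a', ha', ha''⟩ := a.2
        obtain ⟨b', hb', hb''⟩ := b.2
        apply Subtype.ext
        show (a : G) * b = b * a
        rw [← ha'', ← hb'', ← map_mul, ← map_mul, hScomm a' b' ha' hb'] }
  let τ : G →* SG := MonoidHom.transfer (MonoidHom.id SG)
  have hmem_t : (t : G) ∈ SG := ⟨t, htS, rfl⟩
  have hkey : ∀ (k : ℕ) (g₀ : G), g₀⁻¹ * (t : G) ^ k * g₀ ∈ SG →
      g₀⁻¹ * (t : G) ^ k * g₀ = (t : G) ^ k := by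
    intro k g₀ hmem
    rw [← Nat.div_add_mod k 2, pow_add, pow_mul, htG2, one_pow, one_mul] at hmem ⊢
    rcases Nat.mod_two_eq_zero_or_one k with h | h <;> rw [h] at hmem ⊢
    · simp
    · rw [pow_one] at hmem ⊢
      obtain ⟨u, hu, hu'⟩ := hmem
      have hu'' : (u : G) = g₀⁻¹ * t * g₀ := hu'
      have hf : 1 < Nat.card (fixedBy (Sylow 5 G) (u : G)) := by
        rw [hu'']
        refine hfixt.trans_le (le_of_eq (Nat.card_congr
          (Equiv.subtypeEquiv (MulAction.toPerm g₀⁻¹) fun R => ?_)))
        show (t : G) • R = R ↔ (g₀⁻¹ * t * g₀) • g₀⁻¹ • R = g₀⁻¹ • R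
        rw [mul_smul, mul_smul, smul_inv_smul, smul_left_cancel_iff]
      have hu2 : (u : G) ^ 2 = 1 := by
        rw [hu'']
        calc (g₀⁻¹ * t * g₀) ^ 2 = g₀⁻¹ * (t : G) ^ 2 * g₀ := by
              rw [pow_two, pow_two]; simp only [mul_assoc, mul_inv_cancel_left]
          _ = 1 := by rw [htG2]; group
      have hu1 : (u : G) ≠ 1 := fun h => htG1 (by
        rw [hu''] at h
        calc (t : G) = g₀ * (g₀⁻¹ * t * g₀) * g₀⁻¹ := by group
          _ = 1 := by rw [h]; group)
      rw [← hu'', huniq u hu hu2 hu1 hf]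
  have hindex : ¬ 2 ∣ SG.index := by
    have hm : Nat.card SG * SG.index = Nat.card G := Subgroup.card_mul_index _
    have hc : Nat.card SG = Nat.card (S : Subgroup N) :=
      (Nat.card_congr ((S : Subgroup N).equivMapOfInjective _ N.subtype_injective).toEquiv).symm
    have hG := card_sylow_mul hS P
    rw [← hN, hd] at hG
    rw [hc, hScard, ← hG] at hm
    rintro ⟨j, hj⟩
    rw [hj] at hm
    rcases hdc with rfl | rfl | rfl <;> simp at hm <;> omega
  rcases IsSimpleGroup.eq_bot_or_eq_top_of_normal τ.ker inferInstance with h | h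
  · obtain ⟨a, b, hab⟩ := not_comm hS
    exact hab ((MonoidHom.ker_eq_bot_iff τ).mp h (by rw [map_mul, map_mul, mul_comm]))
  · have hτ : τ t = 1 := by
      have : (t : G) ∈ τ.ker := h.symm ▸ Subgroup.mem_top _
      exact this
    rw [show τ t = MonoidHom.id SG ⟨(t : G) ^ SG.index, MonoidHom.transfer_eq_pow_aux (t : G) hkey⟩
      from MonoidHom.transfer_eq_pow (MonoidHom.id SG) (t : G) hkey] at hτ
    have : (t : G) ^ SG.index = 1 := congrArg Subtype.val hτ
    obtain ⟨j, hj⟩ : Odd SG.index := Nat.odd_iff.mpr (by omega)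
    rw [hj, pow_succ, pow_mul, htG2, one_pow, one_mul] at this
    exact htG1 this

end CfsgLib.Sylow21
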