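/-
Reduction to the faithful, generated situation: no finite group has twenty-one Sylow 5-subgroups.
-/
import Cfsg.Agent.Sylow21.Final

set_option autoImplicit false

universe u

namespace CfsgLib.Sylow21

open MulAction Subgroup

local instance factFiveR : Fact (Nat.Prime 5) := ⟨by norm_num⟩

theorem card_sylow_five_ne : ∀ (n : ℕ) (G : Type u) [Group G] [Finite G], Nat.card G = n →
    Nat.card (Sylow 5 G) ≠ 21 := by
  intro n
  induction n using Nat.strong_induction_on with
  | _ n ih =>
  intro G _ _ hn hG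
  set f := MulAction.toPermHom G (Sylow 5 G) with hf
  have hker : ∀ g : G, g ∈ f.ker ↔ ∀ Q : Sylow 5 G, g • Q = Q := fun g => by
    rw [MonoidHom.mem_ker, Equiv.Perm.ext_iff]; rfl
  by_cases hK : f.ker = ⊥
  swap
  · -- pass to the image of the action
    have hlt : Nat.card f.range < n := by
      rw [← hn, ← Subgroup.card_mul_index f.ker, Subgroup.index_ker]
      have h1 : 1 < Nat.card f.ker :=
        (f.ker).one_lt_card_iff_ne_bot.mpr hK
      exact lt_mul_left Nat.card_pos h1
    refine ih _ hlt f.range rfl (Eq.trans (Nat.card_congr (Equiv.ofBijective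
      (Sylow.mapSurjective f.rangeRestrict_surjective) ⟨?_, Sylow.mapSurjective_surjective _ 5⟩)).symm hG)
    intro P Q hPQ
    have h : (P : Subgroup G).map f.rangeRestrict = (Q : Subgroup G).map f.rangeRestrict :=
      congrArg Sylow.toSubgroup hPQ
    refine eq_of_le_normalizer fun q hq => ?_
    obtain ⟨r, hr, hrq⟩ : f.rangeRestrict q ∈ (Q : Subgroup G).map f.rangeRestrict :=
      h ▸ Subgroup.mem_map_of_mem _ hq
    have hk : r⁻¹ * q ∈ f.ker := by
      rw [MonoidHom.mem_ker, map_mul, map_inv,
        show f r = f q from congrArg Subtype.val hrq, inv_mul_cancel]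
    have hq' : q = r * (r⁻¹ * q) := (mul_inv_cancel_left r q).symm
    rw [hq', mul_smul, (hker _).mp hk Q]
    exact smul_eq_iff.mpr (Subgroup.le_normalizer hr)
  · by_cases hgen : ∀ H : Subgroup G, (∀ Q : Sylow 5 G, (Q : Subgroup G) ≤ H) → H = ⊤
    · exact impossible ⟨hG, fun g hg => Subgroup.mem_bot.mp (hK ▸ (hker g).mpr hg), hgen⟩
    · push Not at hgen
      obtain ⟨H, hH, hne⟩ := hgen
      have hlt : Nat.card H < n := hn ▸ lt_of_le_of_ne
        (Subgroup.card_le_card_group H) fun h => hne (Subgroup.eq_top_of_card_eq H h)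
      refine ih _ hlt H rfl (Eq.trans (Nat.card_congr (Equiv.ofBijective
        (fun Q : Sylow 5 G => Q.subtype (hH Q)) ⟨fun P Q h => Sylow.subtype_injective h, ?_⟩)).symm hG)
      intro R
      obtain ⟨Q, hQ⟩ := (R.2.map H.subtype).exists_le_sylow
      refine ⟨Q, Sylow.ext (R.3 (Q.subtype (hH Q)).2 fun x hx => ?_)⟩
      exact hQ (Subgroup.mem_map_of_mem _ hx)

end CfsgLib.Sylow21
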